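import Groth.Agent.TildeRes6.Free

/-!
# The tilde sheaf of a module of bounded regularity
-/

set_option autoImplicit false
set_option linter.style.haveILetI false
set_option linter.unusedSectionVars false
set_option backward.isDefEq.respectTransparency false
set_option backward.isDefEq.respectTransparency.types false
set_option maxHeartbeats 1000000

noncomputable section

universe u

open CategoryTheory CategoryTheory.Limits AlgebraicGeometry GrTilde DirectSum
open Groth.Agent.PnCoh Groth.Agent.PnCoh.Finite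

namespace Groth.Agent.TildeRes6

variable {k : Type u} [Field k] {r : ℕ}

local notation "S" => MvPolynomial (Fin (r + 1)) k
local notation "𝒮" => CohB1.polyGrading r k
local notation "𝒵" => GrSyz.stdGr k (Fin (r + 1))

theorem epi_lift_of_exact {C : Type*} [Category C] [Abelian C] {X Y Z : C} (f : X ⟶ Y) (g : Y ⟶ Z)
    (w : f ≫ g = 0) (h : (ShortComplex.mk f g w).Exact) : Epi (kernel.lift g f w) :=
  (ShortComplex.exact_iff_epi_kernel_lift _).1 h

theorem isQCoh_X₁' {X : Scheme.{u}} {Q : ShortComplex X.Modules} (hQ : Q.ShortExact)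
    (h₂ : Coh.IsQCoh Q.X₂) (h₃ : Coh.IsQCoh Q.X₃) : Coh.IsQCoh Q.X₁ :=
  (QCoh.isQCoh_iff_iso ((kernelIsKernel _).conePointUniqueUpToIso hQ.fIsKernel)).1
    (QCoh.isQCoh_kernel h₂ h₃ Q.g)

/-- Descending induction along a resolution. -/
theorem subsingleton_HH_resolution (G Z : ℕ → (Proj 𝒮).Modules) (Q : ∀ n, ShortComplex (Proj 𝒮).Modules)
    (hQ : ∀ n, (Q n).ShortExact) (h₁ : ∀ n, (Q n).X₁ = Z (n + 1)) (h₂ : ∀ n, (Q n).X₂ = G n)
    (h₃ : ∀ n, (Q n).X₃ = Z n) (j : ℤ) (hZ : ∀ n, Coh.IsQCoh ((twF j).obj (Z n))) (q : ℕ)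
    (hG : ∀ n, Subsingleton (Coh.HH (Proj 𝒮) ((twF j).obj (G n)) (q + n))) :
    Subsingleton (Coh.HH (Proj 𝒮) ((twF j).obj (Z 0)) q) := by
  suffices ∀ m n : ℕ, r < q + n + m → Subsingleton (Coh.HH (Proj 𝒮) ((twF j).obj (Z n)) (q + n)) from
    this (r + 1) 0 (by omega)
  intro m
  induction m with
  | zero =>
    intro n hn
    letI : (Proj 𝒮).Over (Spec (CommRingCat.of k)) :=
      inferInstanceAs ((CohB1.ProjSpace r k).Over (Spec (CommRingCat.of k)))
    exact QCoh.HH_subsingleton_of_cover (X := Proj 𝒮) (r + 1)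
      (fun i => D 𝒮 (coords k r (ULift.up i)))
      (fun i => Proj.isAffineOpen_basicOpen 𝒮 _ (coords_mem (k := k) (r := r) (ULift.up i)) Nat.one_pos)
      (top_le_iff.1 (coords_cover.ge.trans (iSup_le fun i => le_iSup_of_le i.down le_rfl)))
      (fun V W hV hW => IsAffineOpen.inf hV hW) (hZ n) (q + n)
      (by omega)
  | succ m ih =>
    intro n hn
    have h := subsingleton_HH_X₃' (shortExact_twistBy (coords k r) coords_mem coords_cover j (hQ n)) (q + n)
    have e2 : Subsingleton (Coh.HH (Proj 𝒮) ((twF j).obj (Q n).X₂) (q + n)) := by rw [h₂]; exact hG n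
    have e1 : Subsingleton (Coh.HH (Proj 𝒮) ((twF j).obj (Q n).X₁) (q + n + 1)) := by
      rw [h₁]; exact ih (n + 1) (by omega)
    rw [← h₃ n]
    exact h e2 e1

variable {M : Type u} [AddCommGroup M] [Module k M] [Module (MvPolynomial (Fin (r + 1)) k) M]
  [IsScalarTower k (MvPolynomial (Fin (r + 1)) k) M]
  {ℳ : ℤ → Submodule k M} [Decomposition ℳ] [SetLike.GradedSMul (GrSyz.stdGr k (Fin (r + 1))) ℳ]
  [SetLike.GradedSMul (CohB1.polyGrading r k) (fun n : ℕ => ℳ (n : ℤ))]

omit [IsScalarTower k S M] [SetLike.GradedSMul 𝒮 (fun n : ℕ => ℳ (n : ℤ))] in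
theorem decompose_smul (c : S) {z w : ℤ} {m : M} (hm : m ∈ ℳ z) :
    (decompose ℳ (c • m) w : M) = (decompose 𝒵 c (w - z) : S) • m := by
  classical
  induction c using Decomposition.inductionOn 𝒵 with
  | zero => simp
  | @homogeneous i c =>
    have h : (c : S) • m ∈ ℳ (i + z) := SetLike.GradedSMul.smul_mem c.2 hm
    rcases eq_or_ne (i + z) w with rfl | hne
    · rw [decompose_of_mem_same _ h, show i + z - z = i by ring, decompose_of_mem_same _ c.2]
    · rw [decompose_of_mem_ne _ h hne, decompose_of_mem_ne _ c.2 (by omega), zero_smul]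
  | add a b ha hb =>
    simp only [add_smul, decompose_add, DirectSum.add_apply, Submodule.coe_add, ha, hb]

omit [IsScalarTower k S M] in
theorem decompose_std (c : S) (e : ℕ) : (decompose 𝒵 c (e : ℤ) : S) = (decompose 𝒮 c e : S) := by
  classical
  induction c using Decomposition.inductionOn 𝒮 with
  | zero => simp
  | @homogeneous i c =>
    rcases eq_or_ne i e with rfl | hne
    · rw [decompose_of_mem_same _ c.2, decompose_of_mem_same _ ((mem_poly_iff i _).1 c.2)]
    · rw [decompose_of_mem_ne _ c.2 hne, decompose_of_mem_ne _ ((mem_poly_iff i _).1 c.2) (by exact_mod_cast hne)]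
  | add a b ha hb => simp only [decompose_add, DirectSum.add_apply, Submodule.coe_add, ha, hb]

/-- The component of degree `z` in a free module. -/
def comp {n : ℕ} (deg : Fin n → ℤ) (z : ℤ) (v : Fin n → S) : Fin n → S :=
  fun b => (decompose 𝒵 (v b) (z - deg b) : S)

theorem comp_mem {n : ℕ} (deg : Fin n → ℤ) (i : ℕ) (v : Fin n → S) : comp deg (i : ℤ) v ∈ fr k r deg i :=
  fun b => SetLike.coe_mem _

theorem comp_of_mem {n : ℕ} (deg : Fin n → ℤ) {i : ℕ} {v : Fin n → S} (hv : v ∈ fr k r deg i) :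
    comp deg (i : ℤ) v = v := funext fun b => decompose_of_mem_same _ (hv b)

variable (F : GrSyz.FreeRes (GrSyz.stdGr k (Fin (r + 1))) ℳ)

theorem dLin_comp (n : ℕ) (z : ℤ) (v : Fin (F.rk (n + 1)) → S) :
    F.dLin n (comp (F.deg (n + 1)) z v) = comp (F.deg n) z (F.dLin n v) := by
  classical
  funext a
  show (∑ b, F.d n a b * (decompose 𝒵 (v b) (z - F.deg (n + 1) b) : S)) =
    (decompose 𝒵 (∑ b, F.d n a b * v b) (z - F.deg n a) : S)
  rw [decompose_sum, DFinsupp.finsetSum_apply, AddSubmonoidClass.coe_finsetSum]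
  refine Finset.sum_congr rfl fun b _ => ?_
  rw [show z - F.deg n a = (F.deg (n + 1) b - F.deg n a) + (z - F.deg (n + 1) b) by ring]
  exact (coe_decompose_mul_add_of_left_mem 𝒵 (F.d_mem n a b)).symm

theorem augLin_comp (z : ℤ) (v : Fin (F.rk 0) → S) :
    F.augLin (comp (F.deg 0) z v) = (decompose ℳ (F.augLin v) z : M) := by
  classical
  simp only [GrSyz.FreeRes.augLin, Fintype.linearCombination_apply]
  rw [decompose_sum, DFinsupp.finsetSum_apply, AddSubmonoidClass.coe_finsetSum]
  exact Finset.sum_congr rfl fun b _ => (decompose_smul (v b) (F.aug_mem b)).symm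

theorem shift_aug : Shift (fr k r (F.deg 0)) (fun n : ℕ => ℳ (n : ℤ)) F.augLin 0 0 := by
  intro i j m hm hij
  refine Or.inr ⟨i, hij, ?_⟩
  show F.augLin m ∈ ℳ (i : ℤ)
  rw [← comp_of_mem _ hm, augLin_comp]
  exact SetLike.coe_mem _

theorem shift_d (n : ℕ) : Shift (fr k r (F.deg (n + 1))) (fr k r (F.deg n)) (F.dLin n) 0 0 := by
  intro i j m hm hij
  refine Or.inr ⟨i, hij, ?_⟩
  rw [← comp_of_mem _ hm, dLin_comp]
  exact comp_mem _ i _

/-- The augmentation on sheaves. -/
def ε : T k r (F.deg 0) ⟶ tilde 𝒮 (fun n : ℕ => ℳ (n : ℤ)) 0 := shiftHom 𝒮 _ (shift_aug F)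

/-- The differentials on sheaves. -/
def δ (n : ℕ) : T k r (F.deg (n + 1)) ⟶ T k r (F.deg n) := shiftHom 𝒮 _ (shift_d F n)

theorem d_comp (n : ℕ) : (F.dLin n).comp (F.dLin (n + 1)) = 0 := by
  refine LinearMap.ext fun v => ?_
  have h : F.dLin (n + 1) v ∈ LinearMap.ker (F.dLin n) := by
    rw [F.exact_succ n]; exact ⟨v, rfl⟩
  exact h

theorem aug_comp : F.augLin.comp (F.dLin 0) = 0 := by
  refine LinearMap.ext fun v => ?_
  have h : F.dLin 0 v ∈ LinearMap.ker F.augLin := by
    rw [F.exact_zero]; exact ⟨v, rfl⟩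
  exact h

theorem epi_ε : Epi (ε F) := by
  refine epi_shiftHom _ (shift_aug F) fun i j m hm hij => Or.inr ?_
  obtain ⟨v, rfl⟩ := F.aug_surjective m
  exact ⟨i, comp (F.deg 0) (i : ℤ) v, comp_mem _ i v, hij, by
    rw [augLin_comp]; exact decompose_of_mem_same ℳ hm⟩

theorem exact_ε : (ShortComplex.mk (δ F 0) (ε F)
    (shiftHom_comp _ (shift_d F 0) _ (shift_aug F) (aug_comp F))).Exact := by
  refine exact_shiftHom _ (shift_d F 0) _ (shift_aug F) (aug_comp F) (fun i m c hm h e => ?_)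
    fun i j m hm hij h => Or.inr ?_
  · have hmem : F.augLin m ∈ ℳ (i : ℤ) := by
      rw [← comp_of_mem _ hm, augLin_comp]; exact SetLike.coe_mem _
    rw [map_smul] at h ⊢
    have h2 := decompose_smul c (w := (e : ℤ) + i) hmem
    rw [h, decompose_zero, add_sub_cancel_right, decompose_std] at h2
    exact h2.symm
  · have h' : m ∈ LinearMap.ker F.augLin := h
    rw [F.exact_zero] at h'
    obtain ⟨v, hv⟩ := h'
    exact ⟨i, comp _ (i : ℤ) v, comp_mem _ i v, hij, by rw [dLin_comp, hv, comp_of_mem _ hm]⟩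

theorem exact_δ (n : ℕ) : (ShortComplex.mk (δ F (n + 1)) (δ F n)
    (shiftHom_comp _ (shift_d F (n + 1)) _ (shift_d F n) (d_comp F n))).Exact := by
  refine exact_shiftHom _ (shift_d F (n + 1)) _ (shift_d F n) (d_comp F n) (fun i m c hm h e => ?_)
    fun i j m hm hij h => Or.inr ?_
  · rcases eq_or_ne c 0 with rfl | hc
    · simp
    · rw [map_smul] at h
      have h' : F.dLin n m = 0 := funext fun b => (mul_eq_zero.1 (congrFun h b)).resolve_left hc
      rw [map_smul, h', smul_zero]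
  · have h' : m ∈ LinearMap.ker (F.dLin n) := h
    rw [F.exact_succ n] at h'
    obtain ⟨v, hv⟩ := h'
    exact ⟨i, comp _ (i : ℤ) v, comp_mem _ i v, hij, by rw [dLin_comp, hv, comp_of_mem _ hm]⟩

/-- A stage of the resolution: an object covered by the next free sheaf, exactly. -/
structure Stage (n : ℕ) where
  Z : (Proj 𝒮).Modules
  p : T k r (F.deg n) ⟶ Z
  epi : Epi p
  w : δ F n ≫ p = 0
  exact : (ShortComplex.mk (δ F n) p w).Exact
  qcoh : Coh.IsQCoh Z

include F in
theorem qcoh_target : Coh.IsQCoh (tilde 𝒮 (fun n : ℕ => ℳ (n : ℤ)) 0) := by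
  haveI := epi_ε F
  exact (QCoh.isQCoh_iff_iso ((cokernelIsCokernel (δ F 0)).coconePointUniqueUpToIso
    (exact_ε F).gIsCokernel)).1 (QCoh.isQCoh_cokernel (isQCoh_T _) (isQCoh_T _) _)

/-- The bottom stage. -/
def stage₀ : Stage F 0 where
  Z := tilde 𝒮 (fun n : ℕ => ℳ (n : ℤ)) 0
  p := ε F
  epi := epi_ε F
  w := shiftHom_comp _ (shift_d F 0) _ (shift_aug F) (aug_comp F)
  exact := exact_ε F
  qcoh := qcoh_target F

variable {F}

theorem lift_w {n : ℕ} (s : Stage F n) : δ F (n + 1) ≫ kernel.lift s.p (δ F n) s.w = 0 := by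
  rw [← cancel_mono (kernel.ι s.p), Category.assoc, kernel.lift_ι, zero_comp]
  exact shiftHom_comp _ (shift_d F (n + 1)) _ (shift_d F n) (d_comp F n)

theorem lift_exact {n : ℕ} (s : Stage F n) :
    (ShortComplex.mk (δ F (n + 1)) (kernel.lift s.p (δ F n) s.w) (lift_w s)).Exact :=
  (ShortComplex.exact_iff_of_epi_of_isIso_of_mono
    ({ τ₁ := 𝟙 _, τ₂ := 𝟙 _, τ₃ := kernel.ι s.p
       comm₁₂ := (Category.id_comp _).trans (Category.comp_id _).symm
       comm₂₃ := (Category.id_comp _).trans (kernel.lift_ι _ _ _).symm } :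
      ShortComplex.mk (δ F (n + 1)) (kernel.lift s.p (δ F n) s.w) (lift_w s) ⟶
        ShortComplex.mk (δ F (n + 1)) (δ F n)
          (shiftHom_comp _ (shift_d F (n + 1)) _ (shift_d F n) (d_comp F n)))).2 (exact_δ F n)

/-- The next stage. -/
def next {n : ℕ} (s : Stage F n) : Stage F (n + 1) where
  Z := kernel s.p
  p := kernel.lift s.p (δ F n) s.w
  epi := epi_lift_of_exact (δ F n) s.p s.w s.exact
  w := lift_w s
  exact := lift_exact s
  qcoh := QCoh.isQCoh_kernel (isQCoh_T _) s.qcoh _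

variable (F)

/-- The successive syzygy sheaves. -/
def stage : ∀ n, Stage F n
  | 0 => stage₀ F
  | n + 1 => next (stage n)

theorem stage_succ_Z (n : ℕ) : (stage F (n + 1)).Z = kernel (stage F n).p := rfl

theorem qcoh_twist_stage (j : ℤ) : ∀ n, Coh.IsQCoh ((twF j).obj (stage F n).Z) := by
  have hS : ∀ n, ((ShortComplex.mk (kernel.ι (stage F n).p) (stage F n).p (kernel.condition _)).map
      (twF (k := k) (r := r) j)).ShortExact := fun n =>
    shortExact_twistBy (coords k r) coords_mem coords_cover j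
      (show (ShortComplex.mk (kernel.ι (stage F n).p) (stage F n).p (kernel.condition _)).ShortExact from
        { exact := ShortComplex.exact_kernel _, mono_f := inferInstance, epi_g := (stage F n).epi })
  have h0 : Coh.IsQCoh ((twF j).obj (stage F 0).Z) := by
    let π₁ := (twF j).map (stage F 1).p
    haveI : Epi π₁ := (hS 1).epi_g
    let ι₀ : (twF j).obj (stage F 1).Z ⟶ (twF j).obj (T k r (F.deg 0)) :=
      (twF j).map (kernel.ι (stage F 0).p)
    have h1 : Coh.IsQCoh (cokernel (π₁ ≫ ι₀)) := QCoh.isQCoh_cokernel (isQCoh_twF_T j _) (isQCoh_twF_T j _) _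
    exact (QCoh.isQCoh_iff_iso (cokernelEpiComp π₁ ι₀ ≪≫
      (cokernelIsCokernel ι₀).coconePointUniqueUpToIso (hS 0).gIsCokernel)).1 h1
  intro n
  induction n with
  | zero => exact h0
  | succ n ih =>
    rw [stage_succ_Z]
    have h2 : Coh.IsQCoh ((twF j).obj (T k r (F.deg n))) := isQCoh_twF_T j (F.deg n)
    exact isQCoh_X₁' (Q := (ShortComplex.mk (kernel.ι (stage F n).p) (stage F n).p (kernel.condition _)).map
      (twF (k := k) (r := r) j)) (hS n) h2 ih

include F in
/-- If `M` has regularity at most `d`, so has its sheaf. -/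
theorem isMRegular_tilde {d : ℤ} (hd : F.IsGenLE d) :
    Curv2.IsMRegular k r (tilde 𝒮 (fun n : ℕ => ℳ (n : ℤ)) 0) d := by
  intro q hq hqr
  refine subsingleton_HH_resolution (fun n => T k r (F.deg n)) (fun n => (stage F n).Z)
    (fun n => ShortComplex.mk (kernel.ι (stage F n).p) (stage F n).p (kernel.condition _))
    (fun n => { exact := ShortComplex.exact_kernel _, mono_f := inferInstance, epi_g := (stage F n).epi })
    (fun n => rfl) (fun n => rfl) (fun n => rfl) (d - (q : ℤ)) (fun n => qcoh_twist_stage F _ n) q fun n => ?_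
  refine subsingleton_HH_T (d - (q : ℤ)) (q + n) (by omega) (F.deg n) fun b hb => ?_
  have h1 := hd n b
  have h2 : (q : ℤ) + n = r := by exact_mod_cast hb.1
  omega

end Groth.Agent.TildeRes6
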