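import Groth.Agent.TildeRes6.GSh
import Groth.Agent.InvX.Tensor

/-!
# Multiplication `M(a)~ ⊗ O(b) ≅ M(a + b)~`
-/

set_option autoImplicit false
set_option linter.style.haveILetI false
set_option linter.unusedSectionVars false
set_option backward.isDefEq.respectTransparency false
set_option backward.isDefEq.respectTransparency.types false
set_option maxHeartbeats 1000000

noncomputable section

universe u

open CategoryTheory CategoryTheory.Limits AlgebraicGeometry TopologicalSpace Opposite GrTilde DirectSum MonoidalCategory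
open Groth.Agent.PnCoh Groth.Agent.PnCoh.Finite Groth.Agent.GrLib8 Groth.Agent.KFlatLib

namespace Groth.Agent.TildeRes6

variable {k : Type u} [Field k] {r : ℕ}

local notation "S" => MvPolynomial (Fin (r + 1)) k
local notation "𝒮" => CohB1.polyGrading r k
local notation "𝒵" => GrSyz.stdGr k (Fin (r + 1))

variable {X : GrLC.GMod.{u} (GrSyz.stdGr k (Fin (r + 1)))}

theorem smul_mem_pc_sft {a b : ℤ} {i j i' j' : ℕ} {m : X.carrier} (hm : m ∈ pc (sft X a) i) (hij : (i : ℤ) = j + 0)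
    {p : S} (hp : p ∈ 𝒮 i') (hij' : (i' : ℤ) = j' + b) : p • m ∈ pc (sft X (a + b)) (j + j') := by
  show p • m ∈ X.gr (((j + j' : ℕ) : ℤ) + (a + b))
  have h := SetLike.GradedSMul.smul_mem (B := X.gr) ((mem_poly_iff i' p).1 hp) (show m ∈ X.gr ((i : ℤ) + a) from hm)
  rw [vadd_eq_add] at h
  rwa [show (((j + j' : ℕ) : ℤ) + (a + b)) = (i' : ℤ) + ((i : ℤ) + a) by push_cast; omega]

theorem mul_mem_sh (a b : ℤ) {y : ProjectiveSpectrum 𝒮} {q : LocMod 𝒮 (M := X.carrier) y}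
    (hq : q ∈ tildeAt 𝒮 (pc (sft X a)) 0 y) {t : Twist.Loc 𝒮 y} (ht : t ∈ Twist.twistAt 𝒮 b y) :
    t • q ∈ tildeAt 𝒮 (pc (sft X (a + b))) 0 y := by
  induction hq using Submodule.span_induction with
  | mem q hq =>
    induction ht using Submodule.span_induction with
    | mem t ht =>
      obtain ⟨i, j, m, s, hs, hij, rfl⟩ := hq
      obtain ⟨i', j', p, s', hs', hij', rfl⟩ := ht
      refine Submodule.subset_span ⟨j + j', j' + j, ⟨p.1 • m.1, smul_mem_pc_sft m.2 hij p.2 hij'⟩,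
        ⟨s'.1 * s.1, SetLike.mul_mem_graded s'.2 s.2⟩, mul_notMem hs' hs, by push_cast; omega, ?_⟩
      exact LocalizedModule.mk_smul_mk _ _ _ _
    | zero => rw [zero_smul]; exact zero_mem _
    | add u v _ _ hu hv => rw [add_smul]; exact add_mem hu hv
    | smul c u _ hu =>
      rw [Algebra.smul_def, mul_smul]
      exact Submodule.smul_mem _ c hu
  | zero => rw [smul_zero]; exact zero_mem _
  | add u v _ _ hu hv => rw [smul_add]; exact add_mem hu hv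
  | smul c u _ hu =>
    rw [a0_smul_def, smul_smul, mul_comm, ← smul_smul]
    exact Submodule.smul_mem _ c hu

/-- The product of sections. -/
def mulSh (a b : ℤ) {U : (Opens (ProjectiveSpectrum.top 𝒮))ᵒᵖ} (s : GrTilde.sect 𝒮 (pc (sft X a)) 0 U)
    (t : Twist.sectN (𝒜 := 𝒮) b U) : GrTilde.sect 𝒮 (pc (sft X (a + b))) 0 U :=
  ⟨fun y => ⟨(t.1 y).1 • (show LocMod 𝒮 (M := X.carrier) y.1 from (s.1 y).1), mul_mem_sh a b (s.1 y).2 (t.1 y).2⟩,
   fun y => by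
    obtain ⟨V, hyV, iV, i, j, ⟨m, hm⟩, σ, nσ, hij, w⟩ := s.2 y
    obtain ⟨V', hyV', iV', i', j', p, σ', nσ', hij', w'⟩ := t.2 y
    have hval : ∀ z : (V ⊓ V' : Opens _), (t.1 (iV' ⟨z.1, z.2.2⟩)).1 •
        (show LocMod 𝒮 (M := X.carrier) z.1 from (s.1 (iV ⟨z.1, z.2.1⟩)).1) =
        LocalizedModule.mk (p.1 • (show X.carrier from m))
          ⟨σ'.1 * σ.1, mul_notMem (nσ' ⟨z.1, z.2.2⟩) (nσ ⟨z.1, z.2.1⟩)⟩ := fun z => by
      have h1 : (show LocMod 𝒮 (M := X.carrier) z.1 from (s.1 (iV ⟨z.1, z.2.1⟩)).1) =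
          LocalizedModule.mk (show X.carrier from m) ⟨σ.1, nσ ⟨z.1, z.2.1⟩⟩ := w ⟨z.1, z.2.1⟩
      rw [h1, show (t.1 (iV' ⟨z.1, z.2.2⟩)).1 = _ from w' ⟨z.1, z.2.2⟩]
      exact LocalizedModule.mk_smul_mk _ _ _ _
    by_cases h0 : p.1 • (show X.carrier from m) = 0
    · exact ⟨V ⊓ V', ⟨hyV, hyV'⟩, Opens.infLELeft _ _ ≫ iV, 0, j' + j, 0, ⟨σ'.1 * σ.1, SetLike.mul_mem_graded σ'.2 σ.2⟩,
        fun z => mul_notMem (nσ' ⟨z.1, z.2.2⟩) (nσ ⟨z.1, z.2.1⟩), Or.inr rfl, fun z => (hval z).trans (by rw [h0]; rfl)⟩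
    · rcases hij with hij | hm0
      · rcases hij' with hij' | hp0
        · exact ⟨V ⊓ V', ⟨hyV, hyV'⟩, Opens.infLELeft _ _ ≫ iV, j + j', j' + j,
            ⟨p.1 • m, smul_mem_pc_sft hm hij p.2 hij'⟩, ⟨σ'.1 * σ.1, SetLike.mul_mem_graded σ'.2 σ.2⟩,
            fun z => mul_notMem (nσ' ⟨z.1, z.2.2⟩) (nσ ⟨z.1, z.2.1⟩), Or.inl (by push_cast; omega), hval⟩
        · exact absurd (by rw [hp0, zero_smul]) h0
      · exact absurd (show p.1 • (show X.carrier from m) = 0 by rw [show m = 0 from hm0]; exact smul_zero _) h0⟩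

theorem sval_mulSh (a b : ℤ) {U : (Proj 𝒮).Opens} (s : Γ(sh (sft X a), U)) (t : Twist.sectN (𝒜 := 𝒮) b (op U)) (y : U) :
    sval (show Γ(sh (sft X (a + b)), U) from mulSh a b s t) y =
      (t.1 y).1 • (show LocMod 𝒮 (M := X.carrier) y.1 from sval s y) := rfl

/-- The multiplication map on presheaves. -/
def mulShPre (a b : ℤ) :
    DCoh.toP.obj (sh (sft X a)) ⊗ DCoh.toP.obj (Twist.twist 𝒮 b) ⟶ DCoh.toP.obj (sh (sft X (a + b))) where
  app U := ModuleCat.MonoidalCategory.tensorLift (fun s t => mulSh a b s t)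
    (fun s s' t => Subtype.ext (funext fun y => Subtype.ext
      (smul_add (t.1 y).1 (show LocMod 𝒮 (M := X.carrier) y.1 from (s.1 y).1) (show LocMod 𝒮 (M := X.carrier) y.1 from (s'.1 y).1))))
    (fun c s t => Subtype.ext (funext fun y => Subtype.ext
      ((smul_smul (t.1 y).1 (c.1 y).val _).trans ((congrArg (· • (show LocMod 𝒮 (M := X.carrier) y.1 from (s.1 y).1))
        (mul_comm _ _)).trans (smul_smul (c.1 y).val (t.1 y).1 _).symm))))
    (fun s t t' => Subtype.ext (funext fun y => Subtype.ext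
      (add_smul (t.1 y).1 (t'.1 y).1 (show LocMod 𝒮 (M := X.carrier) y.1 from (s.1 y).1))))
    (fun c s t => Subtype.ext (funext fun y => Subtype.ext
      (mul_smul (c.1 y).val (t.1 y).1 (show LocMod 𝒮 (M := X.carrier) y.1 from (s.1 y).1))))
  naturality {U V} i := ModuleCat.MonoidalCategory.tensor_ext fun s t => rfl

theorem mulShPre_tm (a b : ℤ) {U : ((Proj 𝒮).Opens)ᵒᵖ} (s : (DCoh.toP.obj (sh (sft X a))).obj U)
    (t : (DCoh.toP.obj (Twist.twist 𝒮 b)).obj U) :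
    (mulShPre (X := X) a b).app U (tm s t) = mulSh a b s t := rfl

theorem twPow_mul_neg {f : S} (hf : f ∈ 𝒮 1) (b : ℤ) {U : (Proj 𝒮).Opens} (hU : NonVan (𝒜 := 𝒮) f U) (y : U) :
    ((twPow hf (-b) hU).1 y).1 * ((twPow hf b hU).1 y).1 = 1 := by
  rw [twPow_apply, twPow_apply, Localization.mk_mul, ← Localization.mk_one, Localization.mk_eq_mk_iff,
    Localization.r_iff_exists]
  refine ⟨1, ?_⟩
  simp only [OneMemClass.coe_one, one_mul, mul_one, Submonoid.coe_mul, neg_neg]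
  ring

theorem exists_mulBack {f : S} (hf : f ∈ 𝒮 1) (a b e : ℤ) (he : a + b + -b = e) {W : (Proj 𝒮).Opens}
    (hW : NonVan (𝒜 := 𝒮) f W) (t : Γ(sh (sft X (a + b)), W)) :
    ∃ s : Γ(sh (sft X e), W), ∀ y : W, (show LocMod 𝒮 (M := X.carrier) y.1 from sval s y) =
      ((twPow hf (-b) hW).1 y).1 • (show LocMod 𝒮 (M := X.carrier) y.1 from sval t y) := by
  subst he
  exact ⟨mulSh (a + b) (-b) t (twPow hf (-b) hW), fun y => sval_mulSh (a + b) (-b) t _ y⟩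

/-- Multiplication by the local generator of `O(b)`, on stalks. -/
def stalkMul {f : S} (hf : f ∈ 𝒮 1) {x : (Proj 𝒮)} (hx : x ∈ D 𝒮 f) (a b : ℤ) :
    (stalkMod x (DCoh.toP.obj (sh (sft X a))) : Type u) →ₗ[(Proj 𝒮).presheaf.stalk x]
      (stalkMod x (DCoh.toP.obj (sh (sft X (a + b)))) : Type u) :=
  (((stalkP x).map (mulShPre (X := X) a b)).hom).comp
    ((tensorStalkEquiv _ _).toLinearMap.comp
      ((TensorProduct.mk ((Proj 𝒮).presheaf.stalk x) (stalkMod x (DCoh.toP.obj (sh (sft X a))) : Type u)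
        (stalkMod x (DCoh.toP.obj (Twist.twist 𝒮 b)) : Type u)).flip (stalkGen hf hx b)))

theorem stalkMul_apply {f : S} (hf : f ∈ 𝒮 1) {x : (Proj 𝒮)} (hx : x ∈ D 𝒮 f) (a b : ℤ)
    (z : stalkMod x (DCoh.toP.obj (sh (sft X a)))) :
    stalkMul hf hx a b z = ((stalkP x).map (mulShPre (X := X) a b)).hom
      (tensorStalkEquiv _ _ (z ⊗ₜ[(Proj 𝒮).presheaf.stalk x] stalkGen hf hx b)) := rfl

theorem stalkMul_germ {f : S} (hf : f ∈ 𝒮 1) {x : (Proj 𝒮)} (hx : x ∈ D 𝒮 f) (a b : ℤ)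
    (W : (Proj 𝒮).Opens) (hW : W ≤ D 𝒮 f) (hxW : x ∈ W) (s : (DCoh.toP.obj (sh (sft X a))).obj (op W)) :
    stalkMul hf hx a b (germP (DCoh.toP.obj (sh (sft X a))) W hxW s) =
      germP (DCoh.toP.obj (sh (sft X (a + b)))) W hxW (mulSh a b s (twPow hf b (nonVan_of_le hW))) := by
  rw [stalkMul_apply, stalkGen_eq hf hx b W hW hxW]
  refine Eq.trans (congrArg _ (ofTensor_germ W hxW _ _)) ?_
  exact (stalkModMap_germ (mulShPre a b) W hxW _).trans
    (congrArg (germP (DCoh.toP.obj (sh (sft X (a + b)))) W hxW) (mulShPre_tm a b _ _))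

theorem mulSh_cancel {f : S} (hf : f ∈ 𝒮 1) (b : ℤ) {U : (Proj 𝒮).Opens} (hU : NonVan (𝒜 := 𝒮) f U) (y : U)
    (q : LocMod 𝒮 (M := X.carrier) y.1) :
    ((twPow hf b hU).1 y).1 • (((twPow hf (-b) hU).1 y).1 • q) = q := by
  rw [smul_smul, mul_comm, twPow_mul_neg, one_smul]

theorem stalkMul_injective {f : S} (hf : f ∈ 𝒮 1) {x : (Proj 𝒮)} (hx : x ∈ D 𝒮 f) (a b : ℤ) :
    Function.Injective (stalkMul (X := X) hf hx a b) := by
  refine (injective_iff_map_eq_zero _).2 fun z hz => ?_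
  obtain ⟨W₀, hxW₀, s₀, rfl⟩ := exists_germP z
  let i : W₀ ⊓ D 𝒮 f ⟶ W₀ := homOfLE inf_le_left
  have hxW : x ∈ W₀ ⊓ D 𝒮 f := ⟨hxW₀, hx⟩
  rw [← germP_res (P := DCoh.toP.obj (sh (sft X a))) i hxW s₀, stalkMul_germ hf hx a b _ inf_le_right hxW] at hz
  obtain ⟨W', hxW', j, j', hjj⟩ := TopCat.Presheaf.germ_eq (C := AddCommGrpCat.{u})
    (DCoh.toP.obj (sh (sft X (a + b)))).presheaf x hxW hxW _ 0
    (hz.trans (map_zero (germP (DCoh.toP.obj (sh (sft X (a + b)))) _ hxW)).symm)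
  rw [← germP_res (P := DCoh.toP.obj (sh (sft X a))) i hxW s₀,
    ← germP_res (P := DCoh.toP.obj (sh (sft X a))) j hxW' (res (DCoh.toP.obj (sh (sft X a))) i s₀)]
  refine (congrArg (germP (DCoh.toP.obj (sh (sft X a))) W' hxW') ?_).trans (map_zero _)
  refine sval_ext (U := W') fun y => ?_
  have h1 : ((twPow hf b (nonVan_of_le (inf_le_right : W₀ ⊓ D 𝒮 f ≤ D 𝒮 f))).1 ⟨y.1, j.le y.2⟩).1 •
      (show LocMod 𝒮 (M := X.carrier) y.1 from (s₀.1 ⟨y.1, (j ≫ i).le y.2⟩).1) = 0 :=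
    congrArg (fun t : Γ(sh (sft X (a + b)), W') => (show LocMod 𝒮 (M := X.carrier) y.1 from sval t y))
      (hjj.trans (map_zero _))
  have h2 := congrArg (fun w =>
    ((twPow hf (-b) (nonVan_of_le (inf_le_right : W₀ ⊓ D 𝒮 f ≤ D 𝒮 f))).1 ⟨y.1, j.le y.2⟩).1 • w) h1
  simp only [smul_smul, twPow_mul_neg, one_smul, smul_zero] at h2
  exact h2

theorem stalkMul_surjective {f : S} (hf : f ∈ 𝒮 1) {x : (Proj 𝒮)} (hx : x ∈ D 𝒮 f) (a b : ℤ) :
    Function.Surjective (stalkMul (X := X) hf hx a b) := by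
  intro z
  obtain ⟨W₀, hxW₀, t₀, rfl⟩ := exists_germP z
  let i : W₀ ⊓ D 𝒮 f ⟶ W₀ := homOfLE inf_le_left
  have hxW : x ∈ W₀ ⊓ D 𝒮 f := ⟨hxW₀, hx⟩
  have hNV := nonVan_of_le (inf_le_right : W₀ ⊓ D 𝒮 f ≤ D 𝒮 f)
  obtain ⟨s, hs⟩ := exists_mulBack hf a b a (add_neg_cancel_right a b) hNV
    ((sh (sft X (a + b))).presheaf.map i.op t₀)
  refine ⟨germP (DCoh.toP.obj (sh (sft X a))) _ hxW s, ?_⟩
  rw [stalkMul_germ hf hx a b _ inf_le_right hxW, ← germP_res (P := DCoh.toP.obj (sh (sft X (a + b)))) i hxW t₀]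
  refine congrArg (germP (DCoh.toP.obj (sh (sft X (a + b)))) _ hxW) (sval_ext fun y => ?_)
  refine (sval_mulSh a b s _ y).trans ?_
  rw [hs y]
  exact mulSh_cancel hf b hNV y _

theorem isIso_stalk_mulShPre {f : S} (hf : f ∈ 𝒮 1) {x : (Proj 𝒮)} (hx : x ∈ D 𝒮 f) (a b : ℤ) :
    IsIso ((stalkP x).map (mulShPre (X := X) a b)) := by
  rw [ConcreteCategory.isIso_iff_bijective]
  let eb := LinearEquiv.ofBijective _ (stalkGen_bijective hf hx b)
  let T : (stalkMod x (DCoh.toP.obj (sh (sft X a))) : Type u) →ₗ[(Proj 𝒮).presheaf.stalk x]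
      (stalkMod x (DCoh.toP.obj (sh (sft X a)) ⊗ DCoh.toP.obj (Twist.twist 𝒮 b)) : Type u) :=
    (((TensorProduct.rid _ _).symm.trans (TensorProduct.congr (LinearEquiv.refl _ _) eb)).trans
      (tensorStalkEquiv _ _)).toLinearMap
  have hT : Function.Bijective T := LinearEquiv.bijective _
  have hcomp : ∀ z, ((stalkP x).map (mulShPre (X := X) a b)).hom (T z) = stalkMul hf hx a b z := by
    intro z
    have e1 : eb 1 = stalkGen hf hx b := (LinearMap.toSpanSingleton_apply _ _ _ _).trans (one_smul _ _)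
    rw [stalkMul_apply, ← e1]
    rfl
  have hb : Function.Bijective (((stalkP x).map (mulShPre (X := X) a b)).hom ∘ T) := by
    rw [show (((stalkP x).map (mulShPre (X := X) a b)).hom ∘ T) = stalkMul hf hx a b from funext hcomp]
    exact ⟨stalkMul_injective hf hx a b, stalkMul_surjective hf hx a b⟩
  exact (Function.Bijective.of_comp_iff _ hT).1 hb

/-- The multiplication map. -/
def mulShHom (a b : ℤ) :
    (DCoh.tensorBi.obj (sh (sft X a))).obj (Twist.twist 𝒮 b) ⟶ sh (sft X (a + b)) :=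
  ((PresheafOfModules.sheafificationAdjunction (𝟙 (Proj 𝒮).ringCatSheaf.obj)).homEquiv _ _).symm (mulShPre a b)

theorem unit_mulShHom (a b : ℤ) :
    unitShP (DCoh.toP.obj (sh (sft X a)) ⊗ DCoh.toP.obj (Twist.twist 𝒮 b)) ≫
      DCoh.toP.map (mulShHom (X := X) a b) = mulShPre a b :=
  ((PresheafOfModules.sheafificationAdjunction (𝟙 (Proj 𝒮).ringCatSheaf.obj)).homEquiv_unit
    (f := mulShHom a b)).symm.trans (Equiv.apply_symm_apply _ _)

theorem mulShHom_tmul (a b : ℤ) (s : Γ(sh (sft X a), ⊤)) (t : Γ(Twist.twist 𝒮 b, ⊤)) :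
    (mulShHom a b).app ⊤ (InvX.tmul s t) = mulSh a b s t :=
  (congrArg (fun φ => φ.app (op ⊤) (tm s t)) (unit_mulShHom (X := X) a b)).trans (mulShPre_tm a b s t)

instance isIso_mulShHom (a b : ℤ) : IsIso (mulShHom (X := X) a b) := by
  apply isIso_of_stalk
  intro x
  obtain ⟨j, hj⟩ := Opens.mem_iSup.1 ((coords_cover (k := k) (r := r)).ge (trivial : x ∈ (⊤ : (Proj 𝒮).Opens)))
  have h := unit_mulShHom (X := X) a b
  haveI : IsIso ((stalkP x).map (DCoh.toP.map (mulShHom (X := X) a b))) :=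
    @IsIso.of_isIso_fac_left _ _ _ _ _
      ((stalkP x).map (unitShP (DCoh.toP.obj (sh (sft X a)) ⊗ DCoh.toP.obj (Twist.twist 𝒮 b))))
      _ ((stalkP x).map (mulShPre a b)) (isIso_stalk_unitShP _) (isIso_stalk_mulShPre (coords_mem j) hj a b)
      (((stalkP x).map_comp _ _).symm.trans (congrArg (fun φ => (stalkP x).map φ) h))
  exact (NatIso.isIso_map_iff (stalkToPIso x) (mulShHom (X := X) a b)).2 this

/-- `M(a)~ ⊗ O(b) ≅ M(a + b)~`. -/
def mulShIso (a b : ℤ) : (DCoh.tensorBi.obj (sh (sft X a))).obj (Twist.twist 𝒮 b) ≅ sh (sft X (a + b)) :=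
  asIso (mulShHom a b)

end Groth.Agent.TildeRes6
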