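import Groth.Agent.TildeRes6.KoszulSlim
import Groth.Agent.Lib.ProjShift
import Groth.Agent.InvX.Tensor


/-!
Mumford's lemma on `Proj` of a ring generated in degree one (a slim variant of `Lib.ProjRegular`)

-/

set_option linter.style.haveILetI false
set_option linter.unusedSectionVars false
set_option backward.isDefEq.respectTransparency false
set_option backward.isDefEq.respectTransparency.types false

universe u

open CategoryTheory CategoryTheory.Limits AlgebraicGeometry TopologicalSpace Opposite MonoidalCategory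
open Groth.Agent.KFlatLib Groth.Agent.PnCoh.Finite

namespace Groth.Agent.TildeRes6.Mumford

open Groth.Agent.PnCoh Groth.Agent.TildeRes6.KoszulSlim Groth.Agent.ProjShift

variable {R A : Type u} [CommRing R] [CommRing A] [Algebra R A]
  {𝒜 : ℕ → Submodule R A} [GradedAlgebra 𝒜] {κ : Type u} {f : κ → A}

/-- The twists of a module. -/
noncomputable abbrev tw (G : (Proj 𝒜).Modules) (d : ℤ) : (Proj 𝒜).Modules :=
  (DCoh.tensorBi.obj G).obj (Twist.twist 𝒜 d)

/-- The multiplication maps between the twists. -/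
noncomputable abbrev mulX (hf : ∀ i, f i ∈ 𝒜 1) (G : (Proj 𝒜).Modules) (j : κ) (d : ℤ) :
    tw G (d - 1) ⟶ tw G d :=
  (DCoh.tensorBi.obj G).map (xHom (hf j) d)

/-- Castelnuovo–Mumford regularity in degree zero, all cohomological degrees. -/
def Reg0 (G : (Proj 𝒜).Modules) : Prop :=
  ∀ q : ℕ, 1 ≤ q → Subsingleton (Coh.HH (Proj 𝒜) (tw G (-(q : ℤ))) q)

variable (hf : ∀ i, f i ∈ 𝒜 1) (hcov : ⨆ j, D 𝒜 (f j) = ⊤) {G : (Proj 𝒜).Modules}

include hf in
theorem mulX_comm (i j : κ) (d : ℤ) :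
    mulX hf G i (d - 1) ≫ mulX hf G j d = mulX hf G j (d - 1) ≫ mulX hf G i d := by
  rw [← Functor.map_comp, ← Functor.map_comp, xHom_comm (hf i) (hf j) d]

include hf hcov in
theorem covered [Fintype κ] (y : (Proj 𝒜)) :
    ∃ j ∈ (Finset.univ : Finset κ).toList, ∀ d, Function.Bijective ((stalkAb y).map (mulX hf G j d)) := by
  obtain ⟨j, hj⟩ := Opens.mem_iSup.1 (hcov.ge (trivial : y ∈ (⊤ : (Proj 𝒜).Opens)))
  exact ⟨j, Finset.mem_toList.2 (Finset.mem_univ j), fun d => bijective_stalkAb (hf j) G hj d⟩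

include hf hcov in
/-- Regularity propagates. -/
theorem reg_add [Finite κ] (hR : Reg0 G) :
    ∀ (e : ℕ) (q : ℕ), 1 ≤ q → Subsingleton (Coh.HH (Proj 𝒜) (tw G ((e : ℤ) - q)) q) := by
  haveI := Fintype.ofFinite κ
  intro e
  induction e with
  | zero => intro q hq; simpa using hR q hq
  | succ e ih =>
    intro i hi
    refine subsingleton_HH_zero (tw G) (mulX hf G) (mulX_comm hf) _ (covered hf hcov) _ i fun p => ?_
    refine subsingleton_HH_obj (tw G) _ _ _ _ ?_
    have h := ih (i + p) (by omega)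
    rwa [show ((e + 1 : ℕ) : ℤ) - (i : ℤ) - ((p + 1 : ℕ) : ℤ) = (e : ℤ) - ((i + p : ℕ) : ℤ) by omega]

section Sections

/-- Global sections, as a functor. -/
noncomputable abbrev secTop (X : Scheme.{u}) : X.Modules ⥤ AddCommGrpCat.{u} :=
  Scheme.Modules.toPresheaf X ⋙ (evaluation _ _).obj (op ⊤)

instance additive_secTop (X : Scheme.{u}) : (secTop X).Additive := ⟨fun {_ _ _ _} => rfl⟩

/-- The span of the tensors of global sections. -/
noncomputable def tensors (G : (Proj 𝒜).Modules) (d : ℤ) : AddSubgroup Γ(tw G d, ⊤) :=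
  AddSubgroup.closure (Set.range fun ts : Γ(G, ⊤) × Γ(Twist.twist 𝒜 d, ⊤) => InvX.tmul ts.1 ts.2)

theorem app_tmul {T T' : (Proj 𝒜).Modules} (φ : T ⟶ T') (G : (Proj 𝒜).Modules) (t : Γ(G, ⊤)) (s : Γ(T, ⊤)) :
    ((DCoh.tensorBi.obj G).map φ).app ⊤ (InvX.tmul t s) = InvX.tmul t (φ.app ⊤ s) :=
  (congrArg (fun ψ : DCoh.toP.obj G ⊗ DCoh.toP.obj T ⟶ DCoh.toP.obj ((DCoh.tensorBi.obj G).obj T') =>
    ψ.app (op ⊤) (tm t s)) (unitShP_naturality (DCoh.toP.obj G ◁ DCoh.toP.map φ))).symm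

include hf in
theorem mulX_mem (d : ℤ) (j : κ) (h : tensors G (d - 1) = ⊤) (w : Γ(tw G (d - 1), ⊤)) :
    (mulX hf G j d).app ⊤ w ∈ tensors G d := by
  have hw : w ∈ tensors G (d - 1) := by rw [h]; trivial
  induction hw using AddSubgroup.closure_induction with
  | mem y hy =>
    obtain ⟨⟨t, s⟩, rfl⟩ := hy
    rw [app_tmul]
    exact AddSubgroup.subset_closure ⟨(t, (xHom (hf j) d).app ⊤ s), rfl⟩
  | zero => rw [map_zero]; exact zero_mem _
  | add a b _ _ ha hb => rw [map_add]; exact add_mem ha hb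
  | neg a _ ha => rw [map_neg]; exact neg_mem ha

/-- `G ⟶ G ⊗ O(0)`. -/
noncomputable def intoTw (G : (Proj 𝒜).Modules) : G ⟶ tw G 0 :=
  ⟨(ρ_ (DCoh.toP.obj G)).inv ≫ DCoh.toP.obj G ◁ DCoh.toP.map (oneHom (𝒜 := 𝒜)) ≫ unitShP _⟩

include hf hcov in
theorem tensors_zero : tensors G 0 = ⊤ := by
  haveI : IsIso (oneHom (𝒜 := 𝒜)) := isIso_oneHom f hf hcov
  haveI : IsIso (intoTw G) := by
    apply isIso_of_stalk
    intro y
    refine (NatIso.isIso_map_iff (stalkToPIso y) (intoTw G)).2 ?_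
    show IsIso ((stalkP y).map ((ρ_ (DCoh.toP.obj G)).inv ≫ DCoh.toP.obj G ◁ DCoh.toP.map (oneHom (𝒜 := 𝒜)) ≫ unitShP _))
    rw [Functor.map_comp, Functor.map_comp]
    infer_instance
  refine eq_top_iff.2 fun z _ => ?_
  obtain ⟨g, hg⟩ := (ConcreteCategory.bijective_of_isIso ((intoTw G).app ⊤)).2 z
  rw [← hg]
  exact AddSubgroup.subset_closure ⟨(g, (oneHom (𝒜 := 𝒜)).app ⊤ (1 : Γ(Proj 𝒜, ⊤))), rfl⟩

include hf hcov in
/-- Global sections of twists of a regular module are spanned by tensors. -/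
theorem tensors_eq_top [Finite κ] (hR : Reg0 G) : ∀ (e : ℕ) (d : ℤ), d = e → tensors G d = ⊤ := by
  haveI := Fintype.ofFinite κ
  intro e
  induction e with
  | zero => rintro d rfl; exact tensors_zero hf hcov
  | succ e ih =>
    intro d hd
    have hprev := ih (d - 1) (by omega)
    refine eq_top_iff.2 fun z _ => ?_
    let l := (Finset.univ : Finset κ).toList
    have hsurj := surjective_dd_zero (tw G) (mulX hf G) (mulX_comm hf) l (covered hf hcov) d (fun p => by
      refine subsingleton_HH_obj (tw G) _ _ _ _ ?_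
      have h := reg_add hf hcov hR e (p + 1) (by omega)
      rwa [show d - ((p + 2 : ℕ) : ℤ) = (e : ℤ) - ((p + 1 : ℕ) : ℤ) by omega])
    haveI := isIso_e0 (tw G) l d
    obtain ⟨z', hz'⟩ := (ConcreteCategory.bijective_of_isIso ((e0 (tw G) l d).app ⊤)).2 z
    obtain ⟨w, hw⟩ := hsurj z'
    rw [← hz', ← hw]
    exact dd_zero_mem (tw G) (mulX hf G) (secTop (Proj 𝒜)) l d (tensors G d)
      (fun j _ t => mulX_mem hf d j hprev t) w
end Sections

end Groth.Agent.TildeRes6.Mumford
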