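import Groth.Agent.TildeRes6.GFree
import Groth.Agent.TildeRes6.GMul
import Groth.Agent.TildeRes6.Mumford

/-!
# Regularity of a graded module and of its sheaf
-/

set_option autoImplicit false
set_option linter.style.haveILetI false
set_option linter.unusedSectionVars false
set_option backward.isDefEq.respectTransparency false
set_option backward.isDefEq.respectTransparency.types false
set_option maxHeartbeats 1000000

noncomputable section

universe u

open CategoryTheory CategoryTheory.Limits AlgebraicGeometry TopologicalSpace Opposite GrTilde DirectSum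
open CategoryTheory.Abelian
open Groth.Agent.PnCoh Groth.Agent.PnCoh.Finite Groth.Agent.GrLib8

namespace Groth.Agent.TildeRes6

open Groth.Agent

theorem subsingleton_H_X₁'' {Y : TopCat.{u}} {T : ShortComplex (CohTop.Ab Y)} (hT : T.ShortExact)
    (n : ℕ) (h₂ : Subsingleton (CohTop.H T.X₂ (n + 1))) (h₃ : Subsingleton (CohTop.H T.X₃ n)) :
    Subsingleton (CohTop.H T.X₁ (n + 1)) := by
  refine subsingleton_of_forall_eq 0 fun x => ?_
  obtain ⟨y, hy⟩ := Ext.covariant_sequence_exact₁ _ hT x (h₂.elim _ _) rfl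
  rw [← hy, h₃.elim y 0]
  exact Ext.zero_comp _ _ _ _ _

theorem subsingleton_HH_X₁'' {X : Scheme.{u}} {T : ShortComplex X.Modules} (hT : T.ShortExact) (n : ℕ)
    (h₂ : Subsingleton (Coh.HH X T.X₂ (n + 1))) (h₃ : Subsingleton (Coh.HH X T.X₃ n)) :
    Subsingleton (Coh.HH X T.X₁ (n + 1)) :=
  subsingleton_H_X₁'' (Y := X.toPresheafedSpace.carrier) (T := T.map (QCoh.toAbFunctor X))
    (QCoh.toAb_shortExact hT) n h₂ h₃

theorem subsingleton_HH_X₁_one' {X : Scheme.{u}} {T : ShortComplex X.Modules} (hT : T.ShortExact)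
    (h₂ : Subsingleton (Coh.HH X T.X₂ 1)) (hs : Function.Surjective (T.g.app ⊤)) :
    Subsingleton (Coh.HH X T.X₁ 1) := by
  let U := T.map (QCoh.toAbFunctor X)
  have hU : U.ShortExact := QCoh.toAb_shortExact hT
  refine subsingleton_of_forall_eq 0 fun x => ?_
  obtain ⟨y, hy⟩ := Ext.covariant_sequence_exact₁ _ hU x (h₂.elim _ _) rfl
  obtain ⟨z, hz⟩ := hs (Sheaf.H.equiv₀ U.X₃ isTerminalTop y)
  have hy' : y = Sheaf.H.map U.g 0 ((Sheaf.H.equiv₀ U.X₂ isTerminalTop).symm z) := by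
    refine (Sheaf.H.equiv₀ U.X₃ isTerminalTop).injective ?_
    refine Eq.trans ?_ (Sheaf.H.equiv₀_naturality isTerminalTop U.g _)
    rw [AddEquiv.apply_symm_apply]
    exact hz.symm
  rw [← hy, hy']
  show (((Sheaf.H.equiv₀ U.X₂ isTerminalTop).symm z).comp (Ext.mk₀ U.g) (add_zero 0)).comp hU.extClass rfl = 0
  rw [Ext.comp_assoc_of_second_deg_zero, hU.comp_extClass, Ext.comp_zero]

variable {k : Type u} [Field k] {r : ℕ}

local notation "S" => MvPolynomial (Fin (r + 1)) k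
local notation "𝒮" => CohB1.polyGrading r k
local notation "𝒵" => GrSyz.stdGr k (Fin (r + 1))
local notation "𝔪" => GrSyz.irrel (GrSyz.stdGr k (Fin (r + 1)))

theorem regBd_std : RegBd (GrSyz.irrel (GrSyz.stdGr k (Fin (r + 1))))
    (gmodPieces (GrSyz.stdGr k (Fin (r + 1))) (GrSyz.stdGr k (Fin (r + 1)))) 0 :=
  fun i g hg => hVan_stdGr k (r + 1) i g hg

theorem exists_regCover {X : GrLC.GMod.{u} (GrSyz.stdGr k (Fin (r + 1)))} [Module.Finite S X.carrier] {D : ℤ}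
    (hX : RegBd 𝔪 X D) :
    ∃ (n : ℕ) (e : Fin n → ℤ) (K : GrLC.GMod.{u} (GrSyz.stdGr k (Fin (r + 1))))
      (f : K.carrier →ₗ[S] (freeGMod (𝒜 := 𝒵) e).carrier) (p : (freeGMod (𝒜 := 𝒵) e).carrier →ₗ[S] X.carrier)
      (hf : GrLC.IsGrHomDeg K.gr (freeGMod (𝒜 := 𝒵) e).gr f 0) (hp : GrLC.IsGrHomDeg (freeGMod (𝒜 := 𝒵) e).gr X.gr p 0),
      Function.Injective f ∧ Function.Surjective p ∧ Function.Exact f p ∧ Module.Finite S K.carrier ∧
      (∀ b, e b ≤ D) ∧ RegBd 𝔪 K (D + 1) := by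
  obtain ⟨n, e, K, f, p, hf, hp, hfi, hps, hex, hK, hmin⟩ := exists_cover X
  obtain ⟨xs, hxs, hspan⟩ := exists_list_span
    ((GrSyz.stdGr k (Fin (r + 1)) 1 : Submodule k S) : Set S)
  have h := regBd_step (stdGr_nonneg k (Fin (r + 1))) regBd_std xs hxs ((irrel_le_span_one k (r + 1)).trans hspan)
    f p hf hp hfi hps hex hmin hX
  exact ⟨n, e, K, f, p, hf, hp, hfi, hps, hex, hK, h.1, h.2⟩

theorem subsingleton_HH_of_regBd : ∀ (N : ℕ) (X : GrLC.GMod.{u} (GrSyz.stdGr k (Fin (r + 1)))) [Module.Finite S X.carrier]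
    (D : ℤ), RegBd 𝔪 X D → ∀ (q : ℕ) (e : ℤ), 1 ≤ q → r < q + N → D ≤ e + q →
    Subsingleton (Coh.HH (Proj 𝒮) (sh (sft X e)) q) := by
  intro N
  induction N with
  | zero =>
    intro X _ D _ q e _ hr _
    exact subsingleton_HH_sh_of_gt X e q (by omega)
  | succ N ih =>
    intro X _ D hX q e hq hr he
    obtain ⟨n, d, K, f, p, hf, hp, hfi, hps, hex, hK, hd, hKreg⟩ := exists_regCover hX
    haveI := hK
    refine subsingleton_HH_X₃' (seqSh_shortExact f hf hfi p hp hex (range_of_surjective p hps) e) q ?_ ?_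
    · refine subsingleton_HH_free q hq d e fun b hb => ?_
      have h1 := hd b
      have h2 : (q : ℤ) = r := by exact_mod_cast hb.1
      omega
    · exact ih K (D + 1) hKreg (q + 1) e (by omega) (by omega) (by push_cast; omega)

theorem surjective_glob_of_regBd (X : GrLC.GMod.{u} (GrSyz.stdGr k (Fin (r + 1)))) [Module.Finite S X.carrier]
    (D : ℤ) (hX : RegBd 𝔪 X D) (e : ℤ) (he : D ≤ e) : Function.Surjective (glob (X := sft X e)) := by
  intro s
  obtain ⟨n, d, K, f, p, hf, hp, hfi, hps, hex, hK, hd, hKreg⟩ := exists_regCover hX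
  haveI := hK
  have hT := seqSh_shortExact f hf hfi p hp hex (range_of_surjective p hps) e
  obtain ⟨t, ht⟩ := QCoh.app_top_surjective_of_HH_one hT
    (subsingleton_HH_of_regBd r K (D + 1) hKreg 1 e le_rfl (by omega) (by push_cast; omega)) s
  obtain ⟨v, rfl⟩ := surjective_glob_free d e (fun b => (hd b).trans he) t
  obtain ⟨hv, hv'⟩ := glob_shMap_preimage p hp (a := e) v
  exact ⟨⟨p v.1, hv⟩, hv'.symm.trans ht⟩

/-- The hypotheses of the converse. -/
structure Hyp (X : GrLC.GMod.{u} (GrSyz.stdGr k (Fin (r + 1)))) (d : ℤ) : Prop where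
  fin : Module.Finite (MvPolynomial (Fin (r + 1)) k) X.carrier
  van : ∀ q : ℕ, 1 ≤ q → Subsingleton (Coh.HH (Proj (CohB1.polyGrading r k)) (sh (sft X (d - (q : ℤ)))) q)
  tors : ∀ e : ℤ, d < e → ∀ m ∈ X.gr e, m ∈ GrLC.gam (GrSyz.irrel (GrSyz.stdGr k (Fin (r + 1)))).toIdeal X.carrier → m = 0
  surj : Function.Surjective (glob (X := sft X d))

variable {X : GrLC.GMod.{u} (GrSyz.stdGr k (Fin (r + 1)))} {d : ℤ}

theorem reg0_sh (h : Hyp X d) : Mumford.Reg0 (sh (sft X d)) := fun q hq =>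
  subsingleton_HH_of_iso' (mulShIso (X := X) d (-(q : ℤ))).symm q
    (by have := h.van q hq; rwa [sub_eq_add_neg] at this)

/-- A degree zero element of a shift, as an element of the module. -/
def val0 {a : ℤ} (v : pc (sft X a) 0) : X.carrier := v.1

theorem val0_mem {a : ℤ} (v : pc (sft X a) 0) : val0 v ∈ X.gr a := by
  have h : val0 v ∈ X.gr (((0 : ℕ) : ℤ) + a) := v.2
  rwa [Nat.cast_zero, zero_add] at h

/-- An element of degree `a` as a degree zero element of the shift. -/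
def mk0 {a : ℤ} (m : X.carrier) (hm : m ∈ X.gr a) : pc (sft X a) 0 :=
  ⟨m, show m ∈ X.gr (((0 : ℕ) : ℤ) + a) by rwa [Nat.cast_zero, zero_add]⟩

theorem val0_mk0 {a : ℤ} (m : X.carrier) (hm : m ∈ X.gr a) : val0 (mk0 m hm) = m := rfl

theorem val0_add {a : ℤ} (u v : pc (sft X a) 0) : val0 (u + v) = val0 u + val0 v := rfl

theorem val0_sub {a : ℤ} (u v : pc (sft X a) 0) : val0 (u - v) = val0 u - val0 v := rfl

theorem gam_val0 {a : ℤ} (v : pc (sft X a) 0) (h : glob v = 0) :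
    val0 v ∈ GrLC.gam (GrSyz.irrel (GrSyz.stdGr k (Fin (r + 1)))).toIdeal X.carrier :=
  mem_gam_of_glob_eq_zero v h

theorem glob_mulSh_tensor (c : ℕ) (v : pc (sft X d) 0) (p : S) (hp : p ∈ 𝒮 c) (s : Γ(Twist.twist 𝒮 (c : ℤ), ⊤))
    (hps : ∀ y : (⊤ : (Proj 𝒮).Opens), (s.1 y).1 = Localization.mk p
      (⟨1, fun h => y.1.isPrime.ne_top ((Ideal.eq_top_iff_one _).mpr h)⟩ : y.1.asHomogeneousIdeal.toIdeal.primeCompl)) :
    ∃ m : pc (sft X (d + (c : ℤ))) 0, val0 m = p • val0 v ∧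
      (show Γ(sh (sft X (d + (c : ℤ))), ⊤) from mulSh d (c : ℤ) (glob v) s) = glob m := by
  have hpv : p • val0 v ∈ pc (sft X (d + (c : ℤ))) 0 :=
    smul_mem_pc_sft (a := d) (b := (c : ℤ)) (i := 0) (j := 0) (i' := c) (j' := 0) v.2 (by simp) hp (by simp)
  refine ⟨⟨p • val0 v, hpv⟩, rfl, sval_ext fun y => ?_⟩
  refine (sval_mulSh d (c : ℤ) (glob v) s y).trans ?_
  rw [hps y, sval_glob, sval_glob]
  refine (LocalizedModule.mk_smul_mk _ _ _ _).trans ?_
  exact congrArg (LocalizedModule.mk _) (Subtype.ext (mul_one (1 : S)))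

/-- Sums of products of degree `d` elements and ring elements, seen as global sections. -/
theorem exists_glob_tensors (h : Hyp X d) (c : ℕ)
    (w : Γ((DCoh.tensorBi.obj (sh (sft X d))).obj (Twist.twist (CohB1.polyGrading r k) (c : ℤ)), (⊤ : (Proj (CohB1.polyGrading r k)).Opens))) :
    ∃ m : pc (sft X (d + (c : ℤ))) 0, val0 m ∈ Submodule.span S (X.gr d : Set X.carrier) ∧
      (Scheme.Modules.Hom.app (mulShHom (X := X) d (c : ℤ)) (⊤ : (Proj (CohB1.polyGrading r k)).Opens)) w =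
        glob (X := sft X (d + (c : ℤ))) m := by
  have hw : w ∈ Mumford.tensors (sh (sft X d)) (c : ℤ) := by
    rw [Mumford.tensors_eq_top (f := coords k r) coords_mem coords_cover (reg0_sh h) c _ rfl]; trivial
  induction hw using AddSubgroup.closure_induction with
  | mem y hy =>
    obtain ⟨⟨t, s⟩, rfl⟩ := hy
    obtain ⟨v, rfl⟩ := h.surj t
    obtain ⟨p, hp⟩ := exists_globalOf_eq (ι := Fin (r + 1)) (R := k) (d := c) s
    obtain ⟨m, hm1, hm2⟩ := glob_mulSh_tensor c v p.1 p.2 s (fun y => by rw [← hp]; rfl)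
    refine ⟨m, ?_, (mulShHom_tmul d (c : ℤ) (glob v) s).trans hm2⟩
    rw [hm1]
    exact Submodule.smul_mem _ _ (Submodule.subset_span (val0_mem v))
  | zero => exact ⟨0, zero_mem _, (map_zero _).trans glob_zero.symm⟩
  | add a b _ _ ha hb =>
    obtain ⟨ma, ha1, ha2⟩ := ha
    obtain ⟨mb, hb1, hb2⟩ := hb
    exact ⟨ma + mb, by rw [val0_add]; exact add_mem ha1 hb1, by rw [map_add, ha2, hb2, glob_add]⟩
  | neg a _ ha =>
    obtain ⟨ma, ha1, ha2⟩ := ha
    refine ⟨-ma, neg_mem (x := val0 ma) ha1, ?_⟩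
    rw [map_neg, ha2, neg_eq_iff_add_eq_zero, ← glob_add, add_neg_cancel, glob_zero]

/-- Above degree `d` the module is generated in degree `d`. -/
theorem mem_span_of_le (h : Hyp X d) {e : ℤ} (he : d ≤ e) {m : X.carrier} (hm : m ∈ X.gr e) :
    m ∈ Submodule.span S (X.gr d : Set X.carrier) := by
  rcases eq_or_lt_of_le he with rfl | hlt
  · exact Submodule.subset_span hm
  obtain ⟨c, rfl⟩ : ∃ c : ℕ, e = d + (c : ℤ) := ⟨(e - d).toNat, by omega⟩
  obtain ⟨w, hw⟩ := (ConcreteCategory.bijective_of_isIso ((mulShHom (X := X) d (c : ℤ)).app ⊤)).2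
    (glob (mk0 m hm))
  obtain ⟨m', hm'span, hm'eq⟩ := exists_glob_tensors h c w
  have h0 : glob (mk0 m hm - m') = 0 := by rw [glob_sub, ← hw, hm'eq, sub_self]
  have hgam := gam_val0 _ h0
  rw [val0_sub, val0_mk0] at hgam
  have hzero : m - val0 m' = 0 := h.tors _ hlt _ (sub_mem hm (val0_mem m')) hgam
  rw [sub_eq_zero] at hzero
  rw [hzero]
  exact hm'span

theorem irrel_pow_smul_mem (h : Hyp X d) : ∀ (N : ℕ) (e : ℤ), d ≤ e + N → ∀ m ∈ X.gr e, ∀ a ∈ (𝔪).toIdeal ^ N,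
    a • m ∈ Submodule.span S (X.gr d : Set X.carrier) := by
  intro N
  induction N with
  | zero => intro e he m hm a _; exact Submodule.smul_mem _ _ (mem_span_of_le h (by simpa using he) hm)
  | succ N ih =>
    intro e he m hm a ha
    rw [pow_succ] at ha
    refine Submodule.mul_induction_on ha (fun u hu v hv => ?_) fun u v hu hv => ?_
    · have hv' := irrel_le_span_one k (r + 1) hv
      clear hv ha
      induction hv' using Submodule.span_induction generalizing u with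
      | mem v hv =>
        rw [mul_smul]
        exact ih (e + 1) (by push_cast at he; omega) _ (by
          have h2 := SetLike.GradedSMul.smul_mem (A := 𝒵) (B := X.gr) (i := (1 : ℤ)) (show v ∈ 𝒵 1 from hv) hm
          rwa [vadd_eq_add, Int.add_comm (1 : ℤ) e] at h2) u hu
      | zero => rw [mul_zero, zero_smul]; exact zero_mem _
      | add v w hv hw ihv ihw => rw [mul_add, add_smul]; exact add_mem (ihv u hu) (ihw u hu)
      | smul c v hv ihv =>
        rw [smul_eq_mul, ← mul_assoc]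
        exact ihv (u * c) (Ideal.mul_mem_right _ _ hu)
    · rw [add_smul]; exact add_mem hu hv

theorem surjective_shMap_top {n : ℕ} (e : Fin n → ℤ)
    (p : (freeGMod (𝒜 := 𝒵) e).carrier →ₗ[S] X.carrier)
    (hp : GrLC.IsGrHomDeg (freeGMod (𝒜 := 𝒵) e).gr X.gr p 0)
    (hsurj : Function.Surjective (glob (X := sft X d)))
    (hrange : Submodule.span S (X.gr d : Set X.carrier) ≤ LinearMap.range p) (a : ℤ) (ha : a = d) :
    Function.Surjective ((shMap (X := sft (freeGMod (𝒜 := 𝒵) e) a) (Y := sft X a) p (hom_sft hp a)).app ⊤) := by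
  subst ha
  intro z
  obtain ⟨x, rfl⟩ := hsurj z
  obtain ⟨v, hv, hpv⟩ := exists_preimage_mem p hp (val0_mem x) (hrange (Submodule.subset_span (val0_mem x)))
  rw [sub_zero] at hv
  obtain ⟨hpv', hglob⟩ := glob_shMap_preimage p hp (a := a) (mk0 v hv)
  exact ⟨glob (mk0 v hv), hglob.trans (glob_congr (X := sft X a) hpv)⟩

theorem tors_sub_free {n : ℕ} (e : Fin n → ℤ) (P : Submodule S (freeGMod (𝒜 := 𝒵) e).carrier) (m : P)
    (hgam : m ∈ GrLC.gam (GrSyz.irrel (GrSyz.stdGr k (Fin (r + 1)))).toIdeal P) : m = 0 := by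
  obtain ⟨N', hN'⟩ := hgam
  refine Subtype.ext (funext fun b => ?_)
  have h1 := congrFun (congrArg Subtype.val (hN' _ (Ideal.pow_mem_pow (mem_irrel_coords ⟨0⟩) N'))) b
  exact (mul_eq_zero.1 h1).resolve_left (pow_ne_zero _ (MvPolynomial.X_ne_zero _))

theorem surjective_glob_sub (h : Hyp X d) {n : ℕ} (e : Fin n → ℤ) (he : ∀ b, e b ≤ d + 1)
    {K : GrLC.GMod.{u} (GrSyz.stdGr k (Fin (r + 1)))}
    (f : K.carrier →ₗ[S] (freeGMod (𝒜 := 𝒵) e).carrier) (hf : GrLC.IsGrHomDeg K.gr (freeGMod (𝒜 := 𝒵) e).gr f 0)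
    (p : (freeGMod (𝒜 := 𝒵) e).carrier →ₗ[S] X.carrier)
    (hp : GrLC.IsGrHomDeg (freeGMod (𝒜 := 𝒵) e).gr X.gr p 0) (hex : Function.Exact f p)
    (hses : (seqSh f hf p hp hex (d + 1)).ShortExact) :
    Function.Surjective (glob (X := sft K (d + 1))) := by
  intro s
  obtain ⟨v, hv⟩ := surjective_glob_free e (d + 1) he ((seqSh f hf p hp hex (d + 1)).f.app ⊤ s)
  obtain ⟨hpv, hglob⟩ := glob_shMap_preimage p hp (a := d + 1) v
  have h0 : glob (X := sft X (d + 1)) ⟨p v.1, hpv⟩ = 0 := by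
    refine hglob.symm.trans ?_
    rw [hv]
    exact @QCoh.app_g_f _ (seqSh f hf p hp hex (d + 1)) ⊤ s
  have hker : p (val0 v) = 0 :=
    h.tors (d + 1) (by omega) (val0 (⟨p v.1, hpv⟩ : pc (sft X (d + 1)) 0)) (val0_mem _) (gam_val0 _ h0)
  obtain ⟨w, hw, hfw⟩ := exists_preimage_mem f hf (val0_mem v) ((hex _).1 hker)
  rw [sub_zero] at hw
  refine ⟨mk0 w hw, QCoh.app_f_injective hses ⊤ ?_⟩
  obtain ⟨hfv, hfglob⟩ := glob_shMap_preimage f hf (a := d + 1) (mk0 w hw)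
  exact (hfglob.trans (glob_congr (X := sft (freeGMod (𝒜 := 𝒵) e) (d + 1)) hfw)).trans hv

theorem seq_X₁_one {X Y Z : GrLC.GMod.{u} (GrSyz.stdGr k (Fin (r + 1)))} {f : X.carrier →ₗ[S] Y.carrier}
    {hf : GrLC.IsGrHomDeg X.gr Y.gr f 0} {p : Y.carrier →ₗ[S] Z.carrier} {hp : GrLC.IsGrHomDeg Y.gr Z.gr p 0}
    {hex : Function.Exact f p} (a : ℤ) (hses : (seqSh f hf p hp hex a).ShortExact)
    (h₂ : Subsingleton (Coh.HH (Proj 𝒮) (sh (sft Y a)) 1))
    (hs : Function.Surjective ((shMap (X := sft Y a) (Y := sft Z a) p (hom_sft hp a)).app ⊤)) :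
    Subsingleton (Coh.HH (Proj 𝒮) (sh (sft X a)) 1) :=
  subsingleton_HH_X₁_one' (T := seqSh f hf p hp hex a) hses h₂ hs

theorem seq_X₁_succ {X Y Z : GrLC.GMod.{u} (GrSyz.stdGr k (Fin (r + 1)))} {f : X.carrier →ₗ[S] Y.carrier}
    {hf : GrLC.IsGrHomDeg X.gr Y.gr f 0} {p : Y.carrier →ₗ[S] Z.carrier} {hp : GrLC.IsGrHomDeg Y.gr Z.gr p 0}
    {hex : Function.Exact f p} (a : ℤ) (hses : (seqSh f hf p hp hex a).ShortExact) (q : ℕ)
    (h₂ : Subsingleton (Coh.HH (Proj 𝒮) (sh (sft Y a)) (q + 1)))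
    (h₃ : Subsingleton (Coh.HH (Proj 𝒮) (sh (sft Z a)) q)) :
    Subsingleton (Coh.HH (Proj 𝒮) (sh (sft X a)) (q + 1)) :=
  subsingleton_HH_X₁'' (T := seqSh f hf p hp hex a) hses q h₂ h₃

theorem hyp_sub (h : Hyp X d) {n : ℕ} (e : Fin n → ℤ) (he : ∀ b, e b = d)
    (p : (freeGMod (𝒜 := 𝒵) e).carrier →ₗ[S] X.carrier)
    (hp : GrLC.IsGrHomDeg (freeGMod (𝒜 := 𝒵) e).gr X.gr p 0)
    (hrange : Submodule.span S (X.gr d : Set X.carrier) ≤ LinearMap.range p)
    (hsurj' : ∀ m : X.carrier, ∃ N : ℕ, ∀ j, coords k r j ^ N • m ∈ LinearMap.range p) :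
    Hyp (subGMod 𝒵 (freeGMod (𝒜 := 𝒵) e).gr (LinearMap.ker p) (isHomogeneous_ker_deg hp)) (d + 1) := by
  let K := subGMod 𝒵 (freeGMod (𝒜 := 𝒵) e).gr (LinearMap.ker p) (isHomogeneous_ker_deg hp)
  let f : K.carrier →ₗ[S] (freeGMod (𝒜 := 𝒵) e).carrier := (LinearMap.ker p).subtype
  have hf : GrLC.IsGrHomDeg K.gr (freeGMod (𝒜 := 𝒵) e).gr f 0 := fun g m hm => (add_zero g).symm ▸ hm
  have hex : Function.Exact f p := fun v =>
    ⟨fun hv => ⟨⟨v, LinearMap.mem_ker.2 hv⟩, rfl⟩, fun ⟨w, hw⟩ => hw ▸ LinearMap.mem_ker.1 w.2⟩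
  haveI : Module.Finite S (freeGMod (𝒜 := 𝒵) e).carrier := inferInstanceAs (Module.Finite S (Fin n → S))
  have hses := fun a => seqSh_shortExact f hf Subtype.val_injective p hp hex hsurj' a
  have hFfree : ∀ q : ℕ, 1 ≤ q →
      Subsingleton (Coh.HH (Proj 𝒮) (sh (sft (freeGMod (𝒜 := 𝒵) e) (d + 1 - (q : ℤ)))) q) := fun q hq =>
    subsingleton_HH_free q hq e _ fun b hb => by
      have h2 : (q : ℤ) = r := by exact_mod_cast hb.1
      have := hb.2
      rw [he b] at this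
      omega
  refine ⟨inferInstanceAs (Module.Finite S (LinearMap.ker p)), fun q hq => ?_,
    fun l _ m _ hgam => tors_sub_free e (LinearMap.ker p) m hgam,
    surjective_glob_sub h e (fun b => by rw [he b]; omega) f hf p hp hex (hses _)⟩
  obtain ⟨q, rfl⟩ : ∃ q', q = q' + 1 := ⟨q - 1, by omega⟩
  rcases Nat.eq_zero_or_pos q with rfl | hq'
  · exact seq_X₁_one (X := K) (Y := freeGMod (𝒜 := 𝒵) e) (Z := X) (d + 1 - (((0 : ℕ) + 1 : ℕ) : ℤ))
      (hses _) (hFfree ((0 : ℕ) + 1) (by omega))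
      (surjective_shMap_top e p hp h.surj hrange (d + 1 - (((0 : ℕ) + 1 : ℕ) : ℤ)) (by simp))
  · refine seq_X₁_succ (X := K) (Y := freeGMod (𝒜 := 𝒵) e) (Z := X) (d + 1 - ((q + 1 : ℕ) : ℤ))
      (hses _) q (hFfree (q + 1) (by omega)) ?_
    have := h.van q hq'
    rw [show d - (q : ℤ) = d + 1 - ((q + 1 : ℕ) : ℤ) by push_cast; ring] at this
    exact this

theorem exists_degree_cover (h : Hyp X d) :
    ∃ (n : ℕ) (e : Fin n → ℤ) (p : (freeGMod (𝒜 := 𝒵) e).carrier →ₗ[S] X.carrier)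
      (hp : GrLC.IsGrHomDeg (freeGMod (𝒜 := 𝒵) e).gr X.gr p 0), (∀ b, e b = d) ∧
      Submodule.span S (X.gr d : Set X.carrier) ≤ LinearMap.range p ∧
      ∀ m : X.carrier, ∃ N : ℕ, ∀ a ∈ (𝔪).toIdeal ^ N, a • m ∈ LinearMap.range p := by
  classical
  haveI := h.fin
  obtain ⟨n, t₀, ht₀⟩ := Submodule.fg_iff_exists_fin_generating_family.1
    (fg_comp 𝒵 (stdGr_nonneg k (Fin (r + 1))) X.gr d)
  have htd : ∀ j, t₀ j ∈ X.gr d := fun j => (ht₀.le (Submodule.subset_span ⟨j, rfl⟩) : t₀ j ∈ GrLC.comp 𝒵 X.gr d)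
  let p : (freeGMod (𝒜 := 𝒵) (fun _ : Fin n => d)).carrier →ₗ[S] X.carrier := Fintype.linearCombination S t₀
  have hrange : Submodule.span S (X.gr d : Set X.carrier) ≤ LinearMap.range p := by
    refine Submodule.span_le.2 fun x hx => ?_
    have hx' : x ∈ Submodule.span (GrLC.deg0 𝒵) (Set.range t₀) := ht₀.ge (show x ∈ GrLC.comp 𝒵 X.gr d from hx)
    have hx'' : x ∈ LinearMap.range (Fintype.linearCombination S t₀) := by
      rw [Fintype.range_linearCombination]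
      clear hx
      induction hx' using Submodule.span_induction with
      | mem z hz => exact Submodule.subset_span hz
      | zero => exact zero_mem _
      | add a b _ _ ha hb => exact add_mem ha hb
      | smul c a _ ha => exact Submodule.smul_mem _ (c : S) ha
    exact hx''
  refine ⟨n, _, p, isGrHomDeg_linComb t₀ htd, fun _ => rfl, hrange, fun m => ?_⟩
  induction m using Decomposition.inductionOn X.gr with
  | zero => exact ⟨0, fun a _ => by rw [smul_zero]; exact zero_mem _⟩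
  | @homogeneous l m =>
    exact ⟨(d - l).toNat, fun a ha => hrange (irrel_pow_smul_mem h _ l (by omega) _ m.2 a ha)⟩
  | add m m' hm hm' =>
    obtain ⟨N₁, h₁⟩ := hm
    obtain ⟨N₂, h₂⟩ := hm'
    refine ⟨N₁ + N₂, fun a ha => ?_⟩
    rw [smul_add]
    exact add_mem (h₁ a (Ideal.pow_le_pow_right (by omega) ha)) (h₂ a (Ideal.pow_le_pow_right (by omega) ha))

theorem hVan_step {i : ℕ} (hi : 1 ≤ i) {n : ℕ} (e : Fin n → ℤ) (he : ∀ b, e b = d)
    (p : (freeGMod (𝒜 := 𝒵) e).carrier →ₗ[S] X.carrier)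
    (hp : GrLC.IsGrHomDeg (freeGMod (𝒜 := 𝒵) e).gr X.gr p 0)
    (hQ : ∀ m : X.carrier, ∃ N : ℕ, ∀ a ∈ (𝔪).toIdeal ^ N, a • m ∈ LinearMap.range p)
    (hK : HVan 𝔪 (subGMod 𝒵 (freeGMod (𝒜 := 𝒵) e).gr (LinearMap.ker p) (isHomogeneous_ker_deg hp)) (i + 1)
      (d - (i : ℤ) + 1)) :
    HVan 𝔪 X i (d - (i : ℤ) + 1) := by
  have hP : (LinearMap.range p).IsHomogeneous X.gr := isHomogeneous_range _ _ (isGrHomDeg_zero_iff.1 hp)
  let K := subGMod 𝒵 (freeGMod (𝒜 := 𝒵) e).gr (LinearMap.ker p) (isHomogeneous_ker_deg hp)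
  let X' := subGMod 𝒵 X.gr (LinearMap.range p) hP
  let Q := quotGMod (𝒜 := 𝒵) X.gr (LinearMap.range p) hP
  have hX' : HVan 𝔪 X' i (d - (i : ℤ) + 1) := by
    refine hVan_right (X := K) (Y := freeGMod (𝒜 := 𝒵) e) (Z := X') (f := (LinearMap.ker p).subtype)
      (p := p.rangeRestrict) (d := 0) (fun g m hm => (add_zero g).symm ▸ hm) (fun g m hm => hp g m hm)
      Subtype.val_injective (LinearMap.surjective_rangeRestrict p) (fun v => ?_)
      (regBd_free regBd_std e d (fun b => (he b).le) i _ (by omega)) (by rwa [sub_zero])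
    exact ⟨fun hv => ⟨⟨v, LinearMap.mem_ker.2 (congrArg Subtype.val hv)⟩, rfl⟩,
      fun ⟨w, hw⟩ => hw ▸ Subtype.ext (LinearMap.mem_ker.1 w.2)⟩
  refine hVan_middle (X := X') (Y := X) (Z := Q) (f := (LinearMap.range p).subtype) (p := (LinearMap.range p).mkQ) (d := 0)
    (fun g m hm => (add_zero g).symm ▸ hm) (fun g m hm => by rw [add_zero]; exact ⟨m, hm, rfl⟩)
    Subtype.val_injective (Submodule.mkQ_surjective _)
    (LinearMap.exact_subtype_mkQ _) (by rwa [sub_zero]) ?_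
  obtain ⟨i', rfl⟩ : ∃ i', i = i' + 1 := ⟨i - 1, by omega⟩
  refine hVan_of_torsion (fun q => ?_) i' _
  obtain ⟨m, rfl⟩ := Submodule.mkQ_surjective (LinearMap.range p) q
  obtain ⟨N', hN'⟩ := hQ m
  exact ⟨N', fun a ha => (Submodule.Quotient.mk_eq_zero _).2 (hN' a ha)⟩

theorem hVan_big (X : GrLC.GMod.{u} (GrSyz.stdGr k (Fin (r + 1)))) (i : ℕ) (g : ℤ) (hi : r + 1 < i) :
    HVan 𝔪 X i g := by
  classical
  intro E
  have hle : (𝔪).toIdeal = Ideal.span ((Finset.univ.image fun j : ULift.{u} (Fin (r + 1)) => coords k r j : Finset S) : Set S) := by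
    rw [Finset.coe_image, Finset.coe_univ, Set.image_univ]
    exact le_antisymm irrel_le_span_coords (Ideal.span_le.2 (by rintro _ ⟨j, rfl⟩; exact mem_irrel_coords j))
  haveI : Subsingleton (LocCoh.H (𝔪).toIdeal i X.carrier) := by
    rw [hle]
    refine LC.subsingleton_of_card_lt _ (ModuleCat.of _ X.carrier) i (lt_of_le_of_lt Finset.card_image_le ?_)
    simp only [Finset.card_univ, Fintype.card_ulift, Fintype.card_fin]
    omega
  obtain ⟨e⟩ := nonempty_H_equiv X.gr E 𝔪 i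
  haveI := e.toEquiv.subsingleton
  exact Hcomp_eq_bot_of_subsingleton E 𝔪 i _

theorem hVan_of_hyp : ∀ (N : ℕ) (X : GrLC.GMod.{u} (GrSyz.stdGr k (Fin (r + 1)))) (d : ℤ), Hyp X d →
    ∀ i : ℕ, 1 ≤ i → r + 1 < i + N → HVan 𝔪 X i (d - (i : ℤ) + 1) := by
  intro N
  induction N with
  | zero => intro X d _ i _ hi; exact hVan_big X i _ (by omega)
  | succ N ih =>
    intro X d h i hi hiN
    obtain ⟨n, e, p, hp, he, hrange, hQ⟩ := exists_degree_cover h
    refine hVan_step hi e he p hp hQ ?_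
    have hK := hyp_sub h e he p hp hrange fun m =>
      ⟨(hQ m).choose, fun j => (hQ m).choose_spec _ (Ideal.pow_mem_pow (mem_irrel_coords j) _)⟩
    have := ih _ (d + 1) hK (i + 1) (by omega) (by omega)
    rwa [show d + 1 - ((i + 1 : ℕ) : ℤ) + 1 = d - (i : ℤ) + 1 by push_cast; ring] at this

end Groth.Agent.TildeRes6
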