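import Groth.Prelude.Def_GrMod2
import Groth.Agent.RelTildeX.SheafCrit

/-!
# Degree-shifting maps between tilde sheaves and exactness criteria
-/

set_option autoImplicit false
set_option linter.style.haveILetI false
set_option linter.unusedSectionVars false
set_option backward.isDefEq.respectTransparency false
set_option backward.isDefEq.respectTransparency.types false

noncomputable section

universe u

open CategoryTheory CategoryTheory.Limits AlgebraicGeometry TopologicalSpace Opposite GrTilde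

namespace Groth.Agent.TildeRes6

variable {R A : Type u} [CommRing R] [CommRing A] [Algebra R A] {𝒜 : ℕ → Submodule R A} [GradedAlgebra 𝒜]
variable {M : Type u} [AddCommGroup M] [Module R M] [Module A M] {ℳ : ℕ → Submodule R M} [SetLike.GradedSMul 𝒜 ℳ]
variable {N : Type u} [AddCommGroup N] [Module R N] [Module A N] {𝒩 : ℕ → Submodule R N} [SetLike.GradedSMul 𝒜 𝒩]
variable {P : Type u} [AddCommGroup P] [Module R P] [Module A P] {𝒬 : ℕ → Submodule R P} [SetLike.GradedSMul 𝒜 𝒬]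

variable (ℳ 𝒩) in
/-- `u` maps fractions of degree `n` to fractions of degree `n'`. -/
def Shift (u : M →ₗ[A] N) (n n' : ℤ) : Prop :=
  ∀ (i j : ℕ) (m : M), m ∈ ℳ i → (i : ℤ) = j + n → u m = 0 ∨ ∃ i' : ℕ, (i' : ℤ) = j + n' ∧ u m ∈ 𝒩 i'

variable (u : M →ₗ[A] N) {n n' : ℤ} (hu : Shift ℳ 𝒩 u n n')

/-- The map of localized modules. -/
abbrev loc (x : ProjectiveSpectrum 𝒜) : LocMod 𝒜 (M := M) x →+ LocMod 𝒜 (M := N) x :=
  (LocalizedModule.map x.asHomogeneousIdeal.toIdeal.primeCompl u).toAddMonoidHom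

theorem loc_mk (x : ProjectiveSpectrum 𝒜) (m : M) (s : x.asHomogeneousIdeal.toIdeal.primeCompl) :
    loc u x (LocalizedModule.mk m s) = LocalizedModule.mk (u m) s :=
  LocalizedModule.map_mk _ u m s

include hu in
theorem loc_mem (x : ProjectiveSpectrum 𝒜) {q : LocMod 𝒜 (M := M) x} (hq : q ∈ tildeAt 𝒜 ℳ n x) :
    loc u x q ∈ tildeAt 𝒜 𝒩 n' x := by
  induction hq using Submodule.span_induction with
  | mem q h =>
    obtain ⟨i, j, m, s, hs, hij, rfl⟩ := h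
    rw [loc_mk]
    rcases hu i j m m.2 hij with h0 | ⟨i', hi', hmem⟩
    · rw [h0, LocalizedModule.zero_mk]; exact zero_mem _
    · exact Submodule.subset_span ⟨i', j, ⟨u m, hmem⟩, s, hs, hi', rfl⟩
  | zero => rw [map_zero]; exact zero_mem _
  | add q q' _ _ h h' => rw [map_add]; exact add_mem h h'
  | smul c q _ h =>
    rw [a0_smul_def]
    change (LocalizedModule.map _ u) (c.val • q) ∈ _
    rw [LinearMap.map_smul, ← a0_smul_def]
    exact Submodule.smul_mem _ c h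

/-- The map on sections, pointwise. -/
def shiftFn (U : (Opens (ProjectiveSpectrum.top 𝒜))ᵒᵖ) (f : ∀ x : U.unop, tildeAt 𝒜 ℳ n x.1) (x : U.unop) :
    tildeAt 𝒜 𝒩 n' x.1 :=
  ⟨loc u x.1 (f x).1, loc_mem u hu x.1 (f x).2⟩

theorem isLocFrac_shiftFn (U : (Opens (ProjectiveSpectrum.top 𝒜))ᵒᵖ) (f : ∀ x : U.unop, tildeAt 𝒜 ℳ n x.1)
    (hf : (isLocFrac 𝒜 ℳ n).pred f) : (isLocFrac 𝒜 𝒩 n').pred (shiftFn u hu U f) := fun x => by
  rcases hf x with ⟨V, mV, iV, i, j, m, s, nin, c, w⟩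
  have hw : ∀ y : V, loc u y.1 (f (iV y)).1 = LocalizedModule.mk (u m.1) ⟨s.1, nin y⟩ := fun y => by
    rw [w y, loc_mk]
  have hzero : u m.1 = 0 → IsFrac (ℳ := 𝒩) n' fun y : V => shiftFn u hu U f (iV y) := fun h0 =>
    ⟨0, j, 0, s, nin, Or.inr rfl, fun y => (hw y).trans (by rw [h0]; rfl)⟩
  refine ⟨V, mV, iV, ?_⟩
  rcases c with c | c
  · rcases hu i j m m.2 c with h0 | ⟨i', hi', hmem⟩
    · exact hzero h0
    · exact ⟨i', j, ⟨u m, hmem⟩, s, nin, Or.inl hi', hw⟩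
  · exact hzero (by rw [c, map_zero])

/-- The map on sections. -/
def shiftApp (U : (Opens (ProjectiveSpectrum.top 𝒜))ᵒᵖ) : sect 𝒜 ℳ n U →+ sect 𝒜 𝒩 n' U where
  toFun f := ⟨shiftFn u hu U f.1, isLocFrac_shiftFn u hu U f.1 f.2⟩
  map_zero' := Subtype.ext (funext fun x => Subtype.ext (map_zero (loc u x.1)))
  map_add' f g := Subtype.ext (funext fun x => Subtype.ext (map_add (loc u x.1) _ _))

theorem shiftApp_smul (U : (Opens (ProjectiveSpectrum.top 𝒜))ᵒᵖ) (r : Twist.O (𝒜 := 𝒜) U)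
    (f : sect 𝒜 ℳ n U) : shiftApp u hu U (r • f) = r • shiftApp u hu U f := by
  refine Subtype.ext (funext fun x => Subtype.ext ?_)
  change loc u x.1 (((r • f : sect 𝒜 ℳ n U).1 x : tildeAt 𝒜 ℳ n x.1) : LocMod 𝒜 x.1) =
    (((r • shiftApp u hu U f : sect 𝒜 𝒩 n' U).1 x : tildeAt 𝒜 𝒩 n' x.1) : LocMod 𝒜 x.1)
  have h1 : (((r • f : sect 𝒜 ℳ n U).1 x : tildeAt 𝒜 ℳ n x.1) : LocMod 𝒜 x.1) = (r.1 x).val • ((f.1 x).1) :=
    coe_smul_val n x.1 (r.1 x) (f.1 x)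
  have h2 : (((r • shiftApp u hu U f : sect 𝒜 𝒩 n' U).1 x : tildeAt 𝒜 𝒩 n' x.1) : LocMod 𝒜 x.1) =
      (r.1 x).val • loc u x.1 (f.1 x).1 :=
    coe_smul_val n' x.1 (r.1 x) _
  rw [h1, h2]
  exact LinearMap.map_smul (LocalizedModule.map _ u) (r.1 x).val (f.1 x).1

variable (𝒜) in
/-- The morphism of tilde sheaves attached to `u`. -/
def shiftHom : tilde 𝒜 ℳ n ⟶ tilde 𝒜 𝒩 n' :=
  ⟨PresheafOfModules.homMk
    { app := fun U => AddCommGrpCat.ofHom (shiftApp u hu U)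
      naturality := fun _ _ _ => rfl }
    fun U r s => shiftApp_smul u hu U r s⟩

/-- The value of a section at a point. -/
abbrev sval {U : (Proj 𝒜).Opens} (s : Γ(tilde 𝒜 ℳ n, U)) (y : U) : LocMod 𝒜 (M := M) y.1 := (s.1 y).1

theorem sval_shiftHom {U : (Proj 𝒜).Opens} (s : Γ(tilde 𝒜 ℳ n, U)) (y : U) :
    sval ((shiftHom 𝒜 u hu).app U s) y = loc u y.1 (sval s y) := rfl

theorem sval_ext {U : (Proj 𝒜).Opens} {s t : Γ(tilde 𝒜 ℳ n, U)} (h : ∀ y, sval s y = sval t y) : s = t :=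
  Subtype.ext (funext fun y => Subtype.ext (h y))

theorem sval_res {U V : (Proj 𝒜).Opens} (i : V ⟶ U) (s : Γ(tilde 𝒜 ℳ n, U)) (y : V) :
    sval ((tilde 𝒜 ℳ n).presheaf.map i.op s) y = sval s ⟨y.1, i.le y.2⟩ := rfl

variable (ℳ n) in
/-- A section given by one fraction. -/
def frac (V : (Proj 𝒜).Opens) {i j : ℕ} {m : M} (hm : m ∈ ℳ i) {s : A} (hs : s ∈ 𝒜 j) (hij : (i : ℤ) = j + n)
    (nin : ∀ y : V, s ∉ y.1.asHomogeneousIdeal) : Γ(tilde 𝒜 ℳ n, V) :=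
  ⟨fun y => ⟨LocalizedModule.mk m ⟨s, nin y⟩, Submodule.subset_span ⟨i, j, ⟨m, hm⟩, ⟨s, hs⟩, nin y, hij, rfl⟩⟩,
   fun y => ⟨V, y.2, 𝟙 _, i, j, ⟨m, hm⟩, ⟨s, hs⟩, nin, Or.inl hij, fun _ => rfl⟩⟩

theorem shiftHom_comp (v : N →ₗ[A] P) {n'' : ℤ} (hv : Shift 𝒩 𝒬 v n' n'') (hvu : v.comp u = 0) :
    shiftHom 𝒜 u hu ≫ shiftHom 𝒜 v hv = 0 := by
  refine Scheme.Modules.hom_ext _ _ fun U => ?_
  ext s
  refine sval_ext fun y => ?_
  change loc v y.1 (loc u y.1 (sval s y)) = 0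
  induction sval s y using LocalizedModule.induction_on with
  | h m t => rw [loc_mk, loc_mk, ← LinearMap.comp_apply, hvu, LinearMap.zero_apply, LocalizedModule.zero_mk]

theorem mono_shiftHom (hinj : Function.Injective u) : Mono (shiftHom 𝒜 u hu) := by
  refine QCoh.mono_of_app_injective _ fun U a b hab => sval_ext fun y => ?_
  exact (LocalizedModule.map_injective _ u hinj) (congrArg (fun s => sval s y) hab)

theorem epi_shiftHom
    (hsurj : ∀ (i j : ℕ) (m : N), m ∈ 𝒩 i → (i : ℤ) = j + n' →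
      m = 0 ∨ ∃ (i' : ℕ) (m' : M), m' ∈ ℳ i' ∧ (i' : ℤ) = j + n ∧ u m' = m) :
    Epi (shiftHom 𝒜 u hu) := by
  refine RelTildeX.epi_of_locally _ fun U s x hx => ?_
  obtain ⟨V, hxV, iV, i, j, m, σ, nin, c, w⟩ := s.2 ⟨x, hx⟩
  have h0 : m.1 = 0 ∨ ∃ (i' : ℕ) (m' : M), m' ∈ ℳ i' ∧ (i' : ℤ) = j + n ∧ u m' = m.1 := by
    rcases c with c | c
    · exact hsurj i j m m.2 c
    · exact Or.inl c
  refine ⟨V, iV.le, hxV, ?_⟩
  rcases h0 with h0 | ⟨i', m', hm', hij, hum⟩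
  · refine ⟨0, sval_ext fun y => ?_⟩
    rw [map_zero, sval_res]
    exact ((w y).trans (by rw [h0]; exact LocalizedModule.zero_mk _)).symm
  · refine ⟨frac ℳ n V hm' σ.2 hij nin, sval_ext fun y => ?_⟩
    rw [sval_shiftHom, sval_res]
    change loc u y.1 (LocalizedModule.mk m' ⟨σ.1, nin y⟩) = _
    rw [loc_mk, hum]
    exact (w y).symm

theorem exact_shiftHom (v : N →ₗ[A] P) {n'' : ℤ} (hv : Shift 𝒩 𝒬 v n' n'') (hvu : v.comp u = 0)
    (hann : ∀ (i : ℕ) (m : N) (c : A), m ∈ 𝒩 i → v (c • m) = 0 →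
      ∀ e, v ((DirectSum.decompose 𝒜 c e : A) • m) = 0)
    (hex : ∀ (i j : ℕ) (m : N), m ∈ 𝒩 i → (i : ℤ) = j + n' → v m = 0 →
      m = 0 ∨ ∃ (i' : ℕ) (m' : M), m' ∈ ℳ i' ∧ (i' : ℤ) = j + n ∧ u m' = m) :
    (ShortComplex.mk (shiftHom 𝒜 u hu) (shiftHom 𝒜 v hv) (shiftHom_comp u hu v hv hvu)).Exact := by
  refine RelTildeX.exact_of_locally _ fun U s hs x hx => ?_
  obtain ⟨V, hxV, iV, i, j, m, σ, nin, c, w⟩ := s.2 ⟨x, hx⟩
  rcases c with c | c
  swap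
  · exact ⟨V, iV.le, hxV, 0, sval_ext fun y => by
      rw [map_zero, sval_res]
      exact ((w y).trans (by rw [c]; exact LocalizedModule.zero_mk _)).symm⟩
  have h0 : LocalizedModule.mk (v m.1) (⟨σ.1, nin ⟨x, hxV⟩⟩ : x.asHomogeneousIdeal.toIdeal.primeCompl) = 0 := by
    rw [← loc_mk, ← w ⟨x, hxV⟩]
    exact congrArg (fun t => sval t (⟨x, hx⟩ : U)) hs
  rw [← LocalizedModule.zero_mk (⟨σ.1, nin ⟨x, hxV⟩⟩ : x.asHomogeneousIdeal.toIdeal.primeCompl),
    LocalizedModule.mk_eq] at h0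
  obtain ⟨t, ht⟩ := h0
  simp only [Submonoid.smul_def, smul_smul, smul_zero] at ht
  rw [← map_smul] at ht
  classical
  obtain ⟨e, he⟩ : ∃ e, (DirectSum.decompose 𝒜 ((t : A) * σ.1) e : A) ∉ x.asHomogeneousIdeal := by
    by_contra! hall
    refine (x.isPrime.mem_or_mem (x := (t : A)) (y := σ.1) ?_).elim t.2 (nin ⟨x, hxV⟩)
    rw [← DirectSum.sum_support_decompose 𝒜 ((t : A) * σ.1)]
    exact Ideal.sum_mem _ fun k _ => hall k
  let ce : A := (DirectSum.decompose 𝒜 ((t : A) * σ.1) e : A)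
  have hce : ce ∈ 𝒜 e := SetLike.coe_mem _
  let V' : (Proj 𝒜).Opens := V ⊓ Proj.basicOpen 𝒜 ce
  have hxV' : x ∈ V' := ⟨hxV, he⟩
  have nin' : ∀ y : V', ce * σ.1 ∉ y.1.asHomogeneousIdeal := fun y h =>
    (y.1.isPrime.mem_or_mem h).elim y.2.2 (nin ⟨y.1, y.2.1⟩)
  have hcm : ce • m.1 ∈ 𝒩 (e + i) := SetLike.GradedSMul.smul_mem hce m.2
  have hvm : v (ce • m.1) = 0 := hann i m.1 _ m.2 ht e
  have hw : ∀ y : V', sval s ⟨y.1, iV.le y.2.1⟩ = LocalizedModule.mk (ce • m.1) ⟨ce * σ.1, nin' y⟩ := fun y => by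
    refine (w ⟨y.1, y.2.1⟩).trans (LocalizedModule.mk_eq.2 ⟨1, ?_⟩)
    simp only [one_smul, Submonoid.smul_def, smul_smul]
    rw [mul_comm]
  refine ⟨V', inf_le_left.trans iV.le, hxV', ?_⟩
  rcases hex (e + i) (e + j) _ hcm (by push_cast; omega) hvm with hz | ⟨i', m', hm', hij, hum⟩
  · refine ⟨0, sval_ext fun y => ?_⟩
    rw [map_zero, sval_res]
    exact ((hw y).trans (by rw [hz]; exact LocalizedModule.zero_mk _)).symm
  · refine ⟨frac ℳ n V' hm' (SetLike.mul_mem_graded hce σ.2) hij nin', sval_ext fun y => ?_⟩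
    change loc u y.1 (LocalizedModule.mk m' ⟨ce * σ.1, nin' y⟩) = _
    rw [loc_mk, hum]
    exact (hw y).symm

theorem isZero_tilde [Subsingleton M] : IsZero (tilde 𝒜 ℳ n) := by
  rw [IsZero.iff_id_eq_zero]
  refine Scheme.Modules.hom_ext _ _ fun U => ?_
  ext s
  refine sval_ext fun y => ?_
  change sval s y = 0
  induction sval s y using LocalizedModule.induction_on with
  | h m t => rw [Subsingleton.elim m 0, LocalizedModule.zero_mk]

/-- Mutually inverse shifting maps give an isomorphism. -/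
def shiftIso (v : N →ₗ[A] M) (hv : Shift 𝒩 ℳ v n' n) (h₁ : ∀ m, v (u m) = m) (h₂ : ∀ m, u (v m) = m) :
    tilde 𝒜 ℳ n ≅ tilde 𝒜 𝒩 n' where
  hom := shiftHom 𝒜 u hu
  inv := shiftHom 𝒜 v hv
  hom_inv_id := by
    refine Scheme.Modules.hom_ext _ _ fun U => ?_
    ext s
    refine sval_ext fun y => ?_
    change loc v y.1 (loc u y.1 (sval s y)) = sval s y
    induction sval s y using LocalizedModule.induction_on with
    | h m t => rw [loc_mk, loc_mk, h₁]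
  inv_hom_id := by
    refine Scheme.Modules.hom_ext _ _ fun U => ?_
    ext s
    refine sval_ext fun y => ?_
    change loc u y.1 (loc v y.1 (sval s y)) = sval s y
    induction sval s y using LocalizedModule.induction_on with
    | h m t => rw [loc_mk, loc_mk, h₂]

end Groth.Agent.TildeRes6
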