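import Groth.Agent.TildeRes6.Basic
import Groth.Prelude.Def_GrSyz
import Groth.Agent.PnCoh.Finite.TwistTensor
import Groth.Agent.PnCoh.TwistQCoh
import Groth.Agent.S0844
import Groth.Agent.QCoh.HHExact
import Groth.Agent.QCoh.CokerQC
import Groth.Prelude.Def_Curv2

/-!
# Tilde sheaves of free graded modules over a polynomial ring
-/

set_option autoImplicit false
set_option linter.style.haveILetI false
set_option linter.unusedSectionVars false
set_option backward.isDefEq.respectTransparency false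
set_option backward.isDefEq.respectTransparency.types false

noncomputable section

universe u

open CategoryTheory CategoryTheory.Limits AlgebraicGeometry GrTilde
open Groth.Agent.PnCoh Groth.Agent.PnCoh.Finite CategoryTheory.Abelian

namespace Groth.Agent.TildeRes6

open Groth.Agent

variable {k : Type u} [Field k] {r : ℕ}

local notation "S" => MvPolynomial (Fin (r + 1)) k
local notation "𝒮" => CohB1.polyGrading r k
local notation "𝒵" => GrSyz.stdGr k (Fin (r + 1))

variable (k r) in
/-- The coordinates. -/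
def coords : ULift.{u} (Fin (r + 1)) → MvPolynomial (Fin (r + 1)) k := fun j => MvPolynomial.X j.down

theorem coords_mem (j : ULift.{u} (Fin (r + 1))) : coords k r j ∈ CohB1.polyGrading r k 1 :=
  MvPolynomial.isHomogeneous_X k j.down

theorem coords_cover : ⨆ j, D (CohB1.polyGrading r k) (coords k r j) = ⊤ := by
  refine top_le_iff.1 ?_
  refine le_trans (PnCoh.iSup_mOpen_single (ι := Fin (r + 1)) (R := k)).ge ?_
  exact iSup_le fun j => le_iSup_of_le (ULift.up j) le_rfl

/-- Tensoring with `O(d)`. -/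
abbrev twF (d : ℤ) : (Proj (CohB1.polyGrading r k)).Modules ⥤ (Proj (CohB1.polyGrading r k)).Modules :=
  DCoh.tensorBi.flip.obj (Twist.twist (CohB1.polyGrading r k) d)

theorem isQCoh_twist' (d : ℤ) : Coh.IsQCoh (Twist.twist (CohB1.polyGrading r k) d) :=
  isQCoh_twist_mvPolynomial (Fin (r + 1)) k d

theorem isQCoh_of_isZero' {E : (Proj (CohB1.polyGrading r k)).Modules} (hE : IsZero E) : Coh.IsQCoh E :=
  (QCoh.isQCoh_iff_iso ((isZero_cokernel_of_epi (𝟙 (Twist.twist (CohB1.polyGrading r k) 0))).iso hE)).1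
    (QCoh.isQCoh_cokernel (isQCoh_twist' 0) (isQCoh_twist' 0) _)

theorem subsingleton_HH_of_isZero' {X : Scheme.{u}} {E : X.Modules} (hE : IsZero E) (n : ℕ) :
    Subsingleton (Coh.HH X E n) := by
  refine subsingleton_of_forall_eq 0 fun x => ?_
  have h1 : Sheaf.H.map ((QCoh.toAbFunctor X).map (𝟙 E)) n x = x := by
    rw [CategoryTheory.Functor.map_id, Sheaf.H.map_id_apply]
  rw [← h1, hE.eq_of_src (𝟙 E) 0, Functor.map_zero]
  show ((Sheaf.functorH _ n).map 0).hom x = 0
  rw [Functor.map_zero]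
  rfl

theorem subsingleton_HH_of_iso' {X : Scheme.{u}} {E E' : X.Modules} (e : E ≅ E') (n : ℕ)
    (h : Subsingleton (Coh.HH X E n)) : Subsingleton (Coh.HH X E' n) := by
  haveI : Subsingleton ↑((Sheaf.functorH (Opens.grothendieckTopology ↥X) n).obj ((QCoh.toAbFunctor X).obj E)) := h
  exact ((Sheaf.functorH _ n).mapIso ((QCoh.toAbFunctor X).mapIso e)).addCommGroupIsoToAddEquiv.symm.toEquiv.subsingleton

theorem subsingleton_HH_X₃' {X : Scheme.{u}} {Q : ShortComplex X.Modules} (hQ : Q.ShortExact)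
    (n : ℕ) (h₂ : Subsingleton (Coh.HH X Q.X₂ n)) (h₁ : Subsingleton (Coh.HH X Q.X₁ (n + 1))) :
    Subsingleton (Coh.HH X Q.X₃ n) := by
  have key : ∀ {Y : TopCat.{u}} {T : ShortComplex (CohTop.Ab Y)}, T.ShortExact →
      Subsingleton (CohTop.H T.X₂ n) → Subsingleton (CohTop.H T.X₁ (n + 1)) → Subsingleton (CohTop.H T.X₃ n) := by
    intro Y T hT g₂ g₁
    refine subsingleton_of_forall_eq 0 fun x => ?_
    obtain ⟨y, hy⟩ := Ext.covariant_sequence_exact₃ _ hT x rfl (g₁.elim _ _)
    rw [← hy, g₂.elim y 0]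
    exact Ext.zero_comp _ _ _ _ _
  exact key (Y := X.toPresheafedSpace.carrier) (T := Q.map (QCoh.toAbFunctor X)) (QCoh.toAb_shortExact hQ) h₂ h₁

theorem mem_poly_iff (i : ℕ) (p : S) : p ∈ 𝒮 i ↔ p ∈ 𝒵 (i : ℤ) := by
  rw [GrSyz.mem_stdGr_iff]
  show MvPolynomial.IsWeightedHomogeneous 1 p i ↔ _
  have hw : ∀ d : Fin (r + 1) →₀ ℕ,
      Finsupp.weight (fun _ : Fin (r + 1) => (1 : ℤ)) d = ((Finsupp.weight 1 d : ℕ) : ℤ) := fun d => by
    simp [Finsupp.weight_apply, Finsupp.sum]
  constructor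
  · intro h d hd; rw [hw, h hd]
  · intro h d hd; have := h hd; rw [hw] at this; exact_mod_cast this

theorem stdGr_neg {z : ℤ} (hz : z < 0) {p : S} (hp : p ∈ 𝒵 z) : p = 0 := by
  by_contra hne
  obtain ⟨d, hd⟩ := MvPolynomial.exists_coeff_ne_zero hne
  have h := (GrSyz.mem_stdGr_iff k (Fin (r + 1)) z p).1 hp hd
  rw [← h] at hz
  refine absurd hz (not_lt.2 ?_)
  rw [Finsupp.weight_apply]
  exact Finset.sum_nonneg fun i _ => by simp

variable (k r) in
/-- The graded pieces of the free module with generators in degrees `deg`. -/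
def fr {n : ℕ} (deg : Fin n → ℤ) (i : ℕ) : Submodule k (Fin n → S) where
  carrier := {v | ∀ b, v b ∈ 𝒵 ((i : ℤ) - deg b)}
  zero_mem' := fun b => zero_mem _
  add_mem' := fun h h' b => add_mem (h b) (h' b)
  smul_mem' := fun c _ h b => Submodule.smul_mem _ c (h b)

instance gradedSMul_fr {n : ℕ} (deg : Fin n → ℤ) : SetLike.GradedSMul 𝒮 (fr k r deg) where
  smul_mem {i j a m} ha hm := fun b => by
    have h := SetLike.mul_mem_graded ((mem_poly_iff i a).1 ha) (hm b)
    show a * m b ∈ 𝒵 (((i +ᵥ j : ℕ) : ℤ) - deg b)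
    rw [show (((i +ᵥ j : ℕ) : ℤ) - deg b) = (i : ℤ) + ((j : ℤ) - deg b) by
      rw [vadd_eq_add]; push_cast; ring]
    exact h

variable (k r) in
/-- The tilde sheaf of a free graded module. -/
abbrev T {n : ℕ} (deg : Fin n → ℤ) : (Proj 𝒮).Modules := tilde 𝒮 (fr k r deg) 0

theorem shift_single {n : ℕ} (deg : Fin (n + 1) → ℤ) :
    Shift 𝒮 (fr k r deg) (LinearMap.single S (fun _ => S) 0) (-deg 0) 0 := by
  intro i j m hm hij
  refine Or.inr ⟨j, by simp, fun b => ?_⟩
  rcases eq_or_ne b 0 with rfl | hb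
  · rw [LinearMap.coe_single, Pi.single_eq_same, show ((j : ℤ) - deg 0) = (i : ℤ) by omega]
    exact (mem_poly_iff i m).1 hm
  · rw [LinearMap.coe_single, Pi.single_eq_of_ne hb]; exact zero_mem _

theorem shift_tail {n : ℕ} (deg : Fin (n + 1) → ℤ) :
    Shift (fr k r deg) (fr k r (deg ∘ Fin.succ)) (LinearMap.funLeft S S (Fin.succ : Fin n → Fin (n + 1))) 0 0 :=
  fun i _ _ hm hij => Or.inr ⟨i, hij, fun b => hm b.succ⟩

theorem tail_comp_single {n : ℕ} :
    (LinearMap.funLeft S S (Fin.succ : Fin n → Fin (n + 1))).comp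
      (LinearMap.single S (fun _ => S) 0) = 0 := by
  refine LinearMap.ext fun a => funext fun b => ?_
  exact Pi.single_eq_of_ne (M := fun _ => S) (Fin.succ_ne_zero b) a

/-- The sequence `O(-a₀) → T(a) → T(a')`. -/
def freeSeq {n : ℕ} (deg : Fin (n + 1) → ℤ) : ShortComplex (Proj 𝒮).Modules :=
  ShortComplex.mk (X₁ := tilde 𝒮 𝒮 (-deg 0)) (X₂ := T k r deg) (X₃ := T k r (deg ∘ Fin.succ))
    (shiftHom 𝒮 _ (shift_single deg)) (shiftHom 𝒮 _ (shift_tail deg))
    (shiftHom_comp _ (shift_single deg) _ (shift_tail deg) tail_comp_single)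

theorem freeSeq_shortExact {n : ℕ} (deg : Fin (n + 1) → ℤ) : (freeSeq (k := k) (r := r) deg).ShortExact where
  exact := by
    refine exact_shiftHom _ (shift_single deg) _ (shift_tail deg) tail_comp_single
      (fun i m c _ h e => ?_) fun i j m hm hij hv => ?_
    · rcases eq_or_ne c 0 with rfl | hc
      · simp
      · rw [map_smul] at h
        have h' : LinearMap.funLeft S S (Fin.succ : Fin n → Fin (n + 1)) m = 0 :=
          funext fun b => (mul_eq_zero.1 (congrFun h b)).resolve_left hc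
        rw [map_smul, h', smul_zero]
    · have hm0 : m = Pi.single 0 (m 0) := by
        funext b
        induction b using Fin.cases with
        | zero => rw [Pi.single_eq_same]
        | succ b => rw [Pi.single_eq_of_ne (Fin.succ_ne_zero b)]; exact congrFun hv b
      rcases lt_or_ge ((i : ℤ) - deg 0) 0 with hneg | hnn
      · left; rw [hm0, stdGr_neg hneg (hm 0), Pi.single_zero]
      · right
        refine ⟨((i : ℤ) - deg 0).toNat, m 0, ?_, ?_, hm0.symm⟩
        · rw [mem_poly_iff, Int.toNat_of_nonneg hnn]; exact hm 0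
        · rw [Int.toNat_of_nonneg hnn]; omega
  mono_f := mono_shiftHom _ (shift_single deg) fun a b h => by simpa using congrFun h 0
  epi_g := epi_shiftHom _ (shift_tail deg) fun i j m hm hij => Or.inr
    ⟨i, Fin.cons 0 m, fun b => by
      induction b using Fin.cases with
      | zero => simp
      | succ b => simp only [Fin.cons_succ]; exact hm b, hij, funext fun b => by simp [LinearMap.funLeft_apply]⟩

theorem isQCoh_T : ∀ {n : ℕ} (deg : Fin n → ℤ), Coh.IsQCoh (T k r deg) := by
  intro n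
  induction n with
  | zero => exact fun deg => isQCoh_of_isZero' isZero_tilde
  | succ n ih =>
    intro deg
    exact QCoh.isQCoh_X₂ (freeSeq_shortExact deg)
      (isQCoh_twist' (-deg 0)) (ih (deg ∘ Fin.succ))

theorem isQCoh_twF_T (j : ℤ) : ∀ {n : ℕ} (deg : Fin n → ℤ), Coh.IsQCoh ((twF j).obj (T k r deg)) := by
  intro n
  induction n with
  | zero => exact fun deg => isQCoh_of_isZero' ((twF j).map_isZero isZero_tilde)
  | succ n ih =>
    intro deg
    refine QCoh.isQCoh_X₂ (shortExact_twistBy (coords k r) coords_mem coords_cover j (freeSeq_shortExact deg))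
      ?_ (ih (deg ∘ Fin.succ))
    obtain ⟨φ⟩ := twistBy_twist_iso (coords k r) coords_mem coords_cover (-deg 0) j
    exact (QCoh.isQCoh_iff_iso φ.symm).1 (isQCoh_twist' _)

theorem subsingleton_HH_T (j : ℤ) (q : ℕ) (hq : 1 ≤ q) : ∀ {n : ℕ} (deg : Fin n → ℤ),
    (∀ b, ¬ (q = r ∧ j - deg b ≤ -((r : ℤ) + 1))) →
    Subsingleton (Coh.HH (Proj 𝒮) ((twF j).obj (T k r deg)) q) := by
  intro n
  induction n with
  | zero =>
    intro deg _
    exact subsingleton_HH_of_isZero' ((twF j).map_isZero isZero_tilde) q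
  | succ n ih =>
    intro deg h
    refine QCoh.subsingleton_HH_X₂ (shortExact_twistBy (coords k r) coords_mem coords_cover j
      (freeSeq_shortExact deg)) q ?_ (ih (deg ∘ Fin.succ) fun b => h b.succ)
    obtain ⟨φ⟩ := twistBy_twist_iso (coords k r) coords_mem coords_cover (-deg 0) j
    refine subsingleton_HH_of_iso' φ.symm q ?_
    exact S0844.result k r (-deg 0 + j) q (fun hh => by omega) fun hh => h 0 ⟨hh.1, by omega⟩

end Groth.Agent.TildeRes6
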