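import Groth.Agent.TildeRes6.GSh
import Groth.Agent.PnCoh.TwistH0
import Groth.Agent.QCoh.Extension

/-!
# Sheaves of free modules and presentations
-/

set_option autoImplicit false
set_option linter.style.haveILetI false
set_option linter.unusedSectionVars false
set_option backward.isDefEq.respectTransparency false
set_option backward.isDefEq.respectTransparency.types false
set_option maxHeartbeats 1000000

noncomputable section

universe u

open CategoryTheory CategoryTheory.Limits AlgebraicGeometry TopologicalSpace Opposite GrTilde DirectSum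
open Groth.Agent.PnCoh Groth.Agent.PnCoh.Finite Groth.Agent.GrLib8

namespace Groth.Agent.TildeRes6

open Groth.Agent

variable {k : Type u} [Field k] {r : ℕ}

local notation "S" => MvPolynomial (Fin (r + 1)) k
local notation "𝒮" => CohB1.polyGrading r k
local notation "𝒵" => GrSyz.stdGr k (Fin (r + 1))

variable (k r) in
/-- The ring as a graded module, shifted. -/
abbrev line (c : ℤ) : GrLC.GMod.{u} (GrSyz.stdGr k (Fin (r + 1))) :=
  shiftGMod (GrSyz.stdGr k (Fin (r + 1))) (gmodPieces (GrSyz.stdGr k (Fin (r + 1))) (GrSyz.stdGr k (Fin (r + 1)))).gr c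

theorem mem_line (c : ℤ) (a : ℤ) (i : ℕ) (m : S) :
    m ∈ pc (sft (line k r c) a) i ↔ m ∈ 𝒵 ((i : ℤ) + a + c) := Iff.rfl

/-- The identity of the ring, out of a shifted line. -/
def lineOut (c a : ℤ) : (sft (line k r c) a).carrier →ₗ[S] S := LinearMap.id (R := S) (M := S)

/-- The identity of the ring, into a shifted line. -/
def lineIn (c a : ℤ) : S →ₗ[S] (sft (line k r c) a).carrier := LinearMap.id (R := S) (M := S)

theorem shift_lineOut (c a : ℤ) : Shift (pc (sft (line k r c) a)) 𝒮 (lineOut (k := k) (r := r) c a) 0 (a + c) := by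
  intro i j m hm hij
  rcases lt_or_ge ((i : ℤ) + a + c) 0 with h | h
  · exact Or.inl (stdGr_neg h hm)
  · refine Or.inr ⟨((i : ℤ) + a + c).toNat, by omega, ?_⟩
    rw [mem_poly_iff, Int.toNat_of_nonneg h]
    exact hm

theorem shift_lineIn (c a : ℤ) : Shift 𝒮 (pc (sft (line k r c) a)) (lineIn (k := k) (r := r) c a) (a + c) 0 := by
  intro i j m hm hij
  refine Or.inr ⟨j, by simp, ?_⟩
  show m ∈ 𝒵 ((j : ℤ) + a + c)
  rw [show (j : ℤ) + a + c = (i : ℤ) by omega]
  exact (mem_poly_iff i m).1 hm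

/-- The sheaf of a shifted line is a twisting sheaf. -/
def lineIso (c a : ℤ) : sh (sft (line k r c) a) ≅ Twist.twist 𝒮 (a + c) :=
  shiftIso (lineOut c a) (shift_lineOut c a) (lineIn c a) (shift_lineIn c a) (fun _ => rfl) (fun _ => rfl)

theorem surjective_glob_line (c a : ℤ) (h : 0 ≤ a + c) :
    Function.Surjective (glob (X := sft (line k r c) a)) := by
  intro s
  have key : ∀ (e : ℕ), (e : ℤ) = a + c → ∀ t : Γ(Twist.twist 𝒮 (a + c), ⊤), ∃ p : S, p ∈ 𝒮 e ∧
      ∀ y : (⊤ : (Proj 𝒮).Opens), sval (ℳ := CohB1.polyGrading r k) t y =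
        LocalizedModule.mk p (⟨1, fun h => y.1.isPrime.ne_top ((Ideal.eq_top_iff_one _).mpr h)⟩ :
          y.1.asHomogeneousIdeal.toIdeal.primeCompl) := by
    intro e he
    rw [← he]
    intro t
    obtain ⟨p, hp⟩ := exists_globalOf_eq (ι := Fin (r + 1)) (R := k) (d := e) t
    refine ⟨p.1, p.2, fun y => ?_⟩
    rw [← hp]
    rfl
  obtain ⟨p, hp, hval⟩ := key (a + c).toNat (Int.toNat_of_nonneg h) ((lineIso c a).hom.app ⊤ s)
  have hmem : (p : (sft (line k r c) a).carrier) ∈ pc (sft (line k r c) a) 0 := by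
    show p ∈ 𝒵 (((0 : ℕ) : ℤ) + a + c)
    rw [Nat.cast_zero, zero_add, ← Int.toNat_of_nonneg h]
    exact (mem_poly_iff _ p).1 hp
  refine ⟨⟨p, hmem⟩, (ConcreteCategory.bijective_of_isIso ((lineIso c a).hom.app ⊤)).1 (sval_ext fun y => ?_)⟩
  rw [hval y]
  exact loc_mk (lineOut c a) y.1 p _

variable {X Y Z : GrLC.GMod.{u} (GrSyz.stdGr k (Fin (r + 1)))}

theorem glob_shMap_preimage (f : X.carrier →ₗ[S] Y.carrier) (hf : GrLC.IsGrHomDeg X.gr Y.gr f 0) {a : ℤ}
    (v : pc (sft X a) 0) :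
    ∃ hv : f v.1 ∈ pc (sft Y a) 0,
      (shMap (X := sft X a) (Y := sft Y a) f (hom_sft hf a)).app ⊤ (glob v) = glob (X := sft Y a) ⟨f v.1, hv⟩ := by
  have hv : f v.1 ∈ pc (sft Y a) 0 := by
    have h := hom_sft hf a (((0 : ℕ) : ℤ)) v.1 v.2
    rwa [add_zero] at h
  exact ⟨hv, shMap_glob _ _ v hv⟩

/-- The first map of the standard sequence of free modules. -/
def freeFst {n : ℕ} (e : Fin (n + 1) → ℤ) :
    (line k r (-e 0)).carrier →ₗ[S] (freeGMod (𝒜 := 𝒵) e).carrier :=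
  LinearMap.single S (fun _ : Fin (n + 1) => S) 0

/-- The second map of the standard sequence of free modules. -/
def freeSnd {n : ℕ} (e : Fin (n + 1) → ℤ) :
    (freeGMod (𝒜 := 𝒵) e).carrier →ₗ[S] (freeGMod (𝒜 := 𝒵) (fun j : Fin n => e j.succ)).carrier :=
  LinearMap.funLeft S S Fin.succ

theorem isGrHomDeg_freeFst {n : ℕ} (e : Fin (n + 1) → ℤ) :
    GrLC.IsGrHomDeg (line k r (-e 0)).gr (freeGMod (𝒜 := 𝒵) e).gr (freeFst (k := k) (r := r) e) 0 := by
  intro l (m : S) hm b _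
  show Pi.single (M := fun _ : Fin (n + 1) => S) 0 m b ∈ 𝒵 (l + 0 - e b)
  rcases eq_or_ne b 0 with rfl | hb
  · rw [Pi.single_eq_same, add_zero, sub_eq_add_neg]; exact hm
  · rw [Pi.single_eq_of_ne hb]; exact zero_mem _

theorem isGrHomDeg_freeSnd {n : ℕ} (e : Fin (n + 1) → ℤ) :
    GrLC.IsGrHomDeg (freeGMod (𝒜 := 𝒵) e).gr (freeGMod (𝒜 := 𝒵) (fun j : Fin n => e j.succ)).gr
      (freeSnd (k := k) (r := r) e) 0 := by
  intro l (z : Fin (n + 1) → S) hz b _
  show z b.succ ∈ 𝒵 (l + 0 - e b.succ)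
  rw [add_zero]; exact hz b.succ trivial

theorem exact_free {n : ℕ} (e : Fin (n + 1) → ℤ) :
    Function.Exact (freeFst (k := k) (r := r) e) (freeSnd (k := k) (r := r) e) := by
  intro (z : Fin (n + 1) → S)
  refine ⟨fun h => ⟨z 0, funext fun b => ?_⟩, fun ⟨w, hw⟩ => funext fun b => ?_⟩
  · show Pi.single (M := fun _ : Fin (n + 1) => S) 0 (z 0) b = z b
    refine Fin.cases ?_ (fun j => ?_) b
    · rw [Pi.single_eq_same]
    · rw [Pi.single_eq_of_ne (Fin.succ_ne_zero j)]; exact (congrFun h j).symm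
  · show z b.succ = 0
    rw [← hw]; exact Pi.single_eq_of_ne (M := fun _ : Fin (n + 1) => S) (Fin.succ_ne_zero b) (w : S)

theorem free_shortExact {n : ℕ} (e : Fin (n + 1) → ℤ) (a : ℤ) :
    (seqSh (freeFst (k := k) (r := r) e) (isGrHomDeg_freeFst e) (freeSnd e) (isGrHomDeg_freeSnd e)
      (exact_free e) a).ShortExact :=
  seqSh_shortExact _ _ (Pi.single_injective (M := fun _ : Fin (n + 1) => S) 0) _ _ _
    (range_of_surjective _ (LinearMap.funLeft_surjective_of_injective S S _ (Fin.succ_injective n))) a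

theorem isQCoh_sh_free : ∀ {n : ℕ} (e : Fin n → ℤ) (a : ℤ), Coh.IsQCoh (sh (sft (freeGMod (𝒜 := 𝒵) e) a)) := by
  intro n
  induction n with
  | zero =>
    intro e a
    haveI : Subsingleton (sft (freeGMod (𝒜 := 𝒵) e) a).carrier := inferInstanceAs (Subsingleton (Fin 0 → S))
    exact isQCoh_of_isZero' isZero_sh
  | succ n ih =>
    intro e a
    exact QCoh.isQCoh_X₂ (free_shortExact e a)
      ((QCoh.isQCoh_iff_iso (lineIso (-e 0) a).symm).1 (isQCoh_twist' _)) (ih _ a)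

theorem subsingleton_HH_free (q : ℕ) (hq : 1 ≤ q) : ∀ {n : ℕ} (e : Fin n → ℤ) (a : ℤ),
    (∀ b, ¬ (q = r ∧ a - e b ≤ -((r : ℤ) + 1))) →
    Subsingleton (Coh.HH (Proj 𝒮) (sh (sft (freeGMod (𝒜 := 𝒵) e) a)) q) := by
  intro n
  induction n with
  | zero =>
    intro e a _
    haveI : Subsingleton (sft (freeGMod (𝒜 := 𝒵) e) a).carrier := inferInstanceAs (Subsingleton (Fin 0 → S))
    exact subsingleton_HH_of_isZero' isZero_sh q
  | succ n ih =>
    intro e a h
    refine QCoh.subsingleton_HH_X₂ (free_shortExact e a) q ?_ (ih _ a fun b => h b.succ)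
    refine subsingleton_HH_of_iso' (lineIso (-e 0) a).symm q ?_
    exact S0844.result k r (a + -e 0) q (fun hh => by omega) fun hh => h 0 ⟨hh.1, by omega⟩

theorem surjective_glob_free : ∀ {n : ℕ} (e : Fin n → ℤ) (a : ℤ), (∀ b, e b ≤ a) →
    Function.Surjective (glob (X := sft (freeGMod (𝒜 := 𝒵) e) a)) := by
  intro n
  induction n with
  | zero =>
    intro e a _ s
    haveI : Subsingleton (sft (freeGMod (𝒜 := 𝒵) e) a).carrier := inferInstanceAs (Subsingleton (Fin 0 → S))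
    refine ⟨0, sval_ext fun y => ?_⟩
    induction sval s y using LocalizedModule.induction_on with
    | h m t =>
      rw [Subsingleton.elim m 0, LocalizedModule.zero_mk]
      exact LocalizedModule.zero_mk _
  | succ n ih =>
    intro e a h s
    let T := seqSh (freeFst (k := k) (r := r) e) (isGrHomDeg_freeFst e) (freeSnd e) (isGrHomDeg_freeSnd e) (exact_free e) a
    obtain ⟨z, hz⟩ := ih _ a (fun b => h b.succ) (T.g.app ⊤ s)
    let v : (freeGMod (𝒜 := 𝒵) e).carrier := (Fin.cons 0 (z.1 : Fin n → S) : Fin (n + 1) → S)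
    have hv : v ∈ pc (sft (freeGMod (𝒜 := 𝒵) e) a) 0 := fun b _ => by
      show (Fin.cons 0 (z.1 : Fin n → S) : Fin (n + 1) → S) b ∈ 𝒵 (((0 : ℕ) : ℤ) + a - e b)
      refine Fin.cases ?_ (fun j => ?_) b
      · rw [Fin.cons_zero]; exact zero_mem _
      · rw [Fin.cons_succ]; exact z.2 j trivial
    obtain ⟨hv', hv''⟩ := glob_shMap_preimage (freeSnd (k := k) (r := r) e) (isGrHomDeg_freeSnd e) (a := a) ⟨v, hv⟩
    have hfv : freeSnd (k := k) (r := r) e v = z.1 := funext fun j => by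
      show (Fin.cons 0 (z.1 : Fin n → S) : Fin (n + 1) → S) j.succ = (z.1 : Fin n → S) j
      exact Fin.cons_succ _ _ j
    have h0 : T.g.app ⊤ (s - glob (X := sft (freeGMod (𝒜 := 𝒵) e) a) ⟨v, hv⟩) = 0 := by
      rw [map_sub, sub_eq_zero, ← hz]
      exact (hv''.trans (glob_congr hfv)).symm
    obtain ⟨w, hw⟩ := QCoh.exists_app_f_eq (free_shortExact e a) ⊤ _ h0
    obtain ⟨u, rfl⟩ := surjective_glob_line (-e 0) a (by have := h 0; omega) w
    obtain ⟨hu', hu''⟩ := glob_shMap_preimage (freeFst (k := k) (r := r) e) (isGrHomDeg_freeFst e) (a := a) u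
    refine ⟨⟨v, hv⟩ + ⟨_, hu'⟩, ?_⟩
    rw [glob_add, ← hu'']
    exact (congrArg (glob (X := sft (freeGMod (𝒜 := 𝒵) e) a) ⟨v, hv⟩ + ·) hw).trans (add_sub_cancel _ _)

theorem exists_cover (X : GrLC.GMod.{u} (GrSyz.stdGr k (Fin (r + 1)))) [Module.Finite S X.carrier] :
    ∃ (n : ℕ) (e : Fin n → ℤ) (K : GrLC.GMod.{u} (GrSyz.stdGr k (Fin (r + 1))))
      (f : K.carrier →ₗ[S] (freeGMod (𝒜 := 𝒵) e).carrier) (p : (freeGMod (𝒜 := 𝒵) e).carrier →ₗ[S] X.carrier),
      GrLC.IsGrHomDeg K.gr (freeGMod (𝒜 := 𝒵) e).gr f 0 ∧ GrLC.IsGrHomDeg (freeGMod (𝒜 := 𝒵) e).gr X.gr p 0 ∧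
      Function.Injective f ∧ Function.Surjective p ∧ Function.Exact f p ∧ Module.Finite S K.carrier ∧
      ∀ v : Fin n → S, p v = 0 → ∀ j, v j ∈ (GrSyz.irrel 𝒵).toIdeal := by
  obtain ⟨n, t, e, ht, htop, hmin⟩ := exists_minimal_gens 𝒵 (stdGr_nonneg k (Fin (r + 1))) X.gr
    (isUnit_of_stdGr_zero k (Fin (r + 1)))
  let p : (freeGMod (𝒜 := 𝒵) e).carrier →ₗ[S] X.carrier := Fintype.linearCombination S t
  have hp : GrLC.IsGrHomDeg (freeGMod (𝒜 := 𝒵) e).gr X.gr p 0 := isGrHomDeg_linComb t ht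
  haveI : Module.Finite S (freeGMod (𝒜 := 𝒵) e).carrier := inferInstanceAs (Module.Finite S (Fin n → S))
  haveI : Module.Finite S (LinearMap.ker p) := inferInstance
  refine ⟨n, e, subGMod 𝒵 (freeGMod (𝒜 := 𝒵) e).gr (LinearMap.ker p) (isHomogeneous_ker_deg hp),
    (LinearMap.ker p).subtype, p, fun g m hm => (add_zero g).symm ▸ hm, hp, Subtype.val_injective, ?_, ?_, ?_, ?_⟩
  · rw [← LinearMap.range_eq_top]
    exact (Fintype.range_linearCombination S t).trans htop
  · exact fun v => ⟨fun h => ⟨⟨v, LinearMap.mem_ker.2 h⟩, rfl⟩, fun ⟨w, hw⟩ => hw ▸ LinearMap.mem_ker.1 w.2⟩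
  · exact inferInstanceAs (Module.Finite S (LinearMap.ker p))
  · exact fun v hv j => hmin v ((Fintype.linearCombination_apply S t v).symm.trans hv) j

theorem isQCoh_sh_sft (X : GrLC.GMod.{u} (GrSyz.stdGr k (Fin (r + 1)))) [Module.Finite S X.carrier] (a : ℤ) :
    Coh.IsQCoh (sh (sft X a)) := by
  obtain ⟨n, e, K, f, p, hf, hp, hfi, hps, hex, hK, -⟩ := exists_cover X
  haveI := hK
  obtain ⟨n', e', K', f', p', hf', hp', hfi', hps', hex', -, -⟩ := exists_cover K
  have h1 := seqSh_shortExact f hf hfi p hp hex (range_of_surjective p hps) a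
  have h2 := seqSh_shortExact f' hf' hfi' p' hp' hex' (range_of_surjective p' hps') a
  let π₁ := (seqSh f' hf' p' hp' hex' a).g
  haveI : Epi π₁ := h2.epi_g
  let ι₀ := (seqSh f hf p hp hex a).f
  have h3 : Coh.IsQCoh (cokernel (π₁ ≫ ι₀)) :=
    QCoh.isQCoh_cokernel (isQCoh_sh_free e' a) (isQCoh_sh_free e a) _
  exact (QCoh.isQCoh_iff_iso (cokernelEpiComp π₁ ι₀ ≪≫
    (cokernelIsCokernel ι₀).coconePointUniqueUpToIso h1.gIsCokernel)).1 h3

theorem subsingleton_HH_sh_of_gt (X : GrLC.GMod.{u} (GrSyz.stdGr k (Fin (r + 1)))) [Module.Finite S X.carrier]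
    (a : ℤ) (q : ℕ) (hq : r < q) : Subsingleton (Coh.HH (Proj 𝒮) (sh (sft X a)) q) := by
  letI : (Proj 𝒮).Over (Spec (CommRingCat.of k)) :=
    inferInstanceAs ((CohB1.ProjSpace r k).Over (Spec (CommRingCat.of k)))
  exact QCoh.HH_subsingleton_of_cover (X := Proj 𝒮) (r + 1)
    (fun i => D 𝒮 (coords k r (ULift.up i)))
    (fun i => Proj.isAffineOpen_basicOpen 𝒮 _ (coords_mem (k := k) (r := r) (ULift.up i)) Nat.one_pos)
    (top_le_iff.1 (coords_cover.ge.trans (iSup_le fun i => le_iSup_of_le i.down le_rfl)))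
    (fun V W hV hW => IsAffineOpen.inf hV hW) (isQCoh_sh_sft X a) q (by omega)

end Groth.Agent.TildeRes6
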