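import Groth.Agent.GrLib8.RegBound
import Groth.Agent.GrLib8.RegLC
import Groth.Agent.GrLib8.FreeResBuild
import Groth.Agent.GrLib8.StdField
import Groth.Agent.LC.CohCech

/-!
Regularity bounds on graded modules: the part of `GrLib8.RegRes` and `GrLib8.RegStd` that is needed here,
with a small import closure.
-/

set_option autoImplicit false
set_option linter.unusedSectionVars false

universe u

open DirectSum
open Groth.Agent.GrLib8

namespace Groth.Agent.TildeRes6

variable {R : Type u} [CommRing R] [IsNoetherianRing R] {σ : Type u} [SetLike σ R] [AddSubgroupClass σ R]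
  {𝒜 : ℤ → σ} [GradedRing 𝒜] {a : HomogeneousIdeal 𝒜}

variable (a) in
/-- `H^i_a(X)_g = 0` above the diagonal `g + i = d`. -/
def RegBd (X : GrLC.GMod.{u} 𝒜) (d : ℤ) : Prop := ∀ (i : ℕ) (g : ℤ), d < g + i → HVan a X i g

theorem hVan_of_subsingleton {X : GrLC.GMod.{u} 𝒜} [hX : Subsingleton X.carrier] (i : ℕ) (g : ℤ) : HVan a X i g := by
  rcases i with _ | i
  · exact hVan_zero_of fun m _ _ => Subsingleton.elim m 0
  · exact hVan_of_torsion (fun m => ⟨0, fun r _ => Subsingleton.elim _ _⟩) i g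

/-- Free modules inherit the bound of the ring. -/
theorem regBd_free (hR : RegBd a (gmodPieces 𝒜 𝒜) 0) : ∀ {n : ℕ} (e : Fin n → ℤ) (d : ℤ), (∀ b, e b ≤ d) →
    RegBd a (freeGMod (𝒜 := 𝒜) e) d
  | 0, e, _, _ => fun i g _ => by
    haveI : Subsingleton (freeGMod (𝒜 := 𝒜) e).carrier := inferInstanceAs (Subsingleton (Fin 0 → R))
    exact hVan_of_subsingleton i g
  | n + 1, e, d, he => fun i g hg => by
    classical
    let X := shiftGMod 𝒜 (gmodPieces 𝒜 𝒜).gr (-e 0)
    let Y := freeGMod (𝒜 := 𝒜) e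
    let Z := freeGMod (𝒜 := 𝒜) fun j : Fin n => e j.succ
    let f : X.carrier →ₗ[R] Y.carrier := LinearMap.single R (fun _ : Fin (n + 1) => R) 0
    let p : Y.carrier →ₗ[R] Z.carrier := LinearMap.funLeft R R Fin.succ
    refine hVan_middle (X := X) (Y := Y) (Z := Z) (f := f) (p := p) (d := 0) ?_ ?_ (Pi.single_injective (M := fun _ : Fin (n + 1) => R) 0 :)
      (LinearMap.funLeft_surjective_of_injective R R _ (Fin.succ_injective n)) ?_ ?_
      (regBd_free hR _ d (fun b => he _) i g hg)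
    · intro l (m : R) hm b _
      show Pi.single (M := fun _ : Fin (n + 1) => R) 0 m b ∈ 𝒜 (l + 0 - e b)
      rcases eq_or_ne b 0 with rfl | hb
      · rw [Pi.single_eq_same, add_zero, sub_eq_add_neg]; exact hm
      · rw [Pi.single_eq_of_ne hb]; exact zero_mem _
    · intro l (z : Fin (n + 1) → R) hz b _
      show z b.succ ∈ 𝒜 (l + 0 - e b.succ)
      rw [add_zero]; exact hz b.succ trivial
    · intro (z : Fin (n + 1) → R)
      refine ⟨fun h => ⟨z 0, funext fun b => ?_⟩, fun ⟨w, hw⟩ => funext fun b => ?_⟩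
      · show Pi.single (M := fun _ : Fin (n + 1) => R) 0 (z 0) b = z b
        refine Fin.cases ?_ (fun j => ?_) b
        · rw [Pi.single_eq_same]
        · rw [Pi.single_eq_of_ne (Fin.succ_ne_zero j)]; exact (congrFun h j).symm
      · show z b.succ = 0
        rw [← hw]; exact Pi.single_eq_of_ne (M := fun _ : Fin (n + 1) => R) (Fin.succ_ne_zero b) (w : R)
    · refine hVan_shift (hR i _ ?_)
      have := he 0
      omega

/-- One step down a minimal resolution. -/
theorem regBd_step (hpos : ∀ n < 0, ∀ r ∈ 𝒜 n, r = 0) (hR : RegBd a (gmodPieces 𝒜 𝒜) 0) (xs : List R)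
    (hxs : ∀ x ∈ xs, x ∈ 𝒜 1) (hspan : a.toIdeal ≤ Ideal.ofList xs) [Nontrivial R]
    {n : ℕ} {e : Fin n → ℤ} {K Z : GrLC.GMod.{u} 𝒜} (f : K.carrier →ₗ[R] (freeGMod (𝒜 := 𝒜) e).carrier)
    (p : (freeGMod (𝒜 := 𝒜) e).carrier →ₗ[R] Z.carrier) (hf : GrLC.IsGrHomDeg K.gr (freeGMod (𝒜 := 𝒜) e).gr f 0)
    (hp : GrLC.IsGrHomDeg (freeGMod (𝒜 := 𝒜) e).gr Z.gr p 0) (hinj : Function.Injective f)
    (hsurj : Function.Surjective p) (hex : Function.Exact f p)
    (hmin : ∀ v : Fin n → R, p v = 0 → ∀ j, v j ∈ (GrSyz.irrel 𝒜).toIdeal) {D : ℤ} (hZ : RegBd a Z D) :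
    (∀ b, e b ≤ D) ∧ RegBd a K (D + 1) := by
  classical
  have he : ∀ b, e b ≤ D := by
    intro b
    by_contra hb
    let v : Fin n → R := Pi.single b 1
    have hv : v ∈ (freeGMod (𝒜 := 𝒜) e).gr (e b) := fun j _ => by
      show Pi.single (M := fun _ : Fin n => R) b 1 j ∈ 𝒜 (e b - e j)
      rcases eq_or_ne j b with rfl | hj
      · rw [Pi.single_eq_same, sub_self]; exact SetLike.one_mem_graded 𝒜
      · rw [Pi.single_eq_of_ne hj]; exact zero_mem _
    have hz := hp (e b) v hv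
    rw [add_zero] at hz
    have hmem := mem_smul_top_of_diagonal Z xs hxs hspan (e b) (fun q => hZ q _ (by omega)) _ hz
    have hle : Ideal.ofList xs ≤ (GrSyz.irrel 𝒜).toIdeal :=
      Ideal.span_le.2 fun y hy => mem_irrel_of_pos 𝒜 one_pos (hxs y hy)
    let q : (Fin n → R) →ₗ[R] Z.carrier := p
    have hmem' : q v ∈ ((GrSyz.irrel 𝒜).toIdeal • (⊤ : Submodule R (Fin n → R))).map q := by
      rw [Submodule.map_smul'', Submodule.map_top, (LinearMap.range_eq_top (f := q)).2 hsurj]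
      exact Submodule.smul_mono_left hle hmem
    obtain ⟨w, hw, hwv⟩ := hmem'
    have hwj : ∀ w ∈ (GrSyz.irrel 𝒜).toIdeal • (⊤ : Submodule R (Fin n → R)), ∀ j, w j ∈ (GrSyz.irrel 𝒜).toIdeal := by
      intro w hw
      refine Submodule.smul_induction_on hw (fun r hr m _ j => ?_) (fun x y hx hy j => ?_)
      · exact Ideal.mul_mem_right _ _ hr
      · exact add_mem (hx j) (hy j)
    have h1 := hmin (v - w) (by
      show q (v - w) = 0
      exact (map_sub q v w).trans (sub_eq_zero.2 hwv.symm)) b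
    have h2 : v b ∈ (GrSyz.irrel 𝒜).toIdeal := by
      have := add_mem h1 (hwj w hw b)
      rwa [Pi.sub_apply, sub_add_cancel] at this
    rw [show v b = 1 from Pi.single_eq_same b 1, mem_irrel_iff 𝒜 hpos,
      decompose_of_mem_same 𝒜 (SetLike.one_mem_graded 𝒜)] at h2
    exact one_ne_zero h2
  refine ⟨he, fun i g hg => ?_⟩
  rcases i with _ | i
  · have := hVan_left_zero hf hp hinj hsurj hex (regBd_free hR e D he 0 g (by simp only [Nat.cast_zero] at *; omega))
    rwa [sub_zero] at this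
  · have := hVan_left hf hp hinj hsurj hex (hZ i g (by push_cast at hg; omega))
      (regBd_free hR e D he (i + 1) g (by omega))
    rwa [sub_zero] at this

section Diag

variable {M : Type u} [AddCommGroup M] [Module R M] {τ : Type u} [SetLike τ M] [AddSubgroupClass τ M] {ℳ : ℤ → τ}
  [Decomposition ℳ] [SetLike.GradedSMul 𝒜 ℳ]

theorem regBd_iff_diag [IsNoetherianRing R] (E : GrLC.StarInjRes 𝒜 ℳ) {a : HomogeneousIdeal 𝒜}
    (h1 : a.toIdeal ≤ Ideal.span ((𝒜 1 : σ) : Set R)) (d : ℤ) :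
    RegBd a (gmodPieces 𝒜 ℳ) d ↔
      (GrLC.endDeg (E.Hgr a 0) ≤ ((d : WithTop ℤ) : WithBot (WithTop ℤ)) ∧
        ∀ i : ℕ, 0 < i → E.Hcomp a i (d - (i : ℤ) + 1) = ⊥) := by
  simp only [endDeg_le_iff, Hgr_eq_bot_iff, ← hVan_of_pieces_res E]
  constructor
  · exact fun h => ⟨fun g hg => h 0 g (by simpa using hg), fun i _ => h i _ (by omega)⟩
  · rintro ⟨h0, hpos⟩ i g hg
    rcases Nat.eq_zero_or_pos i with rfl | hi
    · exact h0 g (by simpa using hg)
    · have h := hVan_persist h1 (gmodPieces 𝒜 ℳ) (d + 1) 1 le_rfl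
        (fun j hj => by rw [show d + 1 - (j : ℤ) = d - j + 1 by ring]; exact hpos j hj) (g + i) (by omega) i hi
      rwa [add_sub_cancel_right] at h

end Diag

end Groth.Agent.TildeRes6
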