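import Groth.Agent.TildeRes6.Free
import Groth.Agent.TildeRes6.RegSlim
import Groth.Agent.GrModX.Basic

/-!
# Sheaves of bundled graded modules over a polynomial ring
-/

set_option autoImplicit false
set_option linter.style.haveILetI false
set_option linter.unusedSectionVars false
set_option backward.isDefEq.respectTransparency false
set_option backward.isDefEq.respectTransparency.types false
set_option maxHeartbeats 1000000

noncomputable section

universe u

open CategoryTheory CategoryTheory.Limits AlgebraicGeometry TopologicalSpace Opposite GrTilde DirectSum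
open Groth.Agent.PnCoh Groth.Agent.PnCoh.Finite Groth.Agent.GrLib8

namespace Groth.Agent.TildeRes6

variable {k : Type u} [Field k] {r : ℕ}

local notation "S" => MvPolynomial (Fin (r + 1)) k
local notation "𝒮" => CohB1.polyGrading r k
local notation "𝒵" => GrSyz.stdGr k (Fin (r + 1))
local notation "𝔪" => GrSyz.irrel (GrSyz.stdGr k (Fin (r + 1)))

/-- Scalars act through the constants. -/
instance kmod (X : GrLC.GMod.{u} (GrSyz.stdGr k (Fin (r + 1)))) : Module k X.carrier :=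
  Module.compHom X.carrier (MvPolynomial.C (R := k) (σ := Fin (r + 1)))

theorem C_mem_zero (c : k) : (MvPolynomial.C c : S) ∈ 𝒵 0 := by
  rw [GrSyz.mem_stdGr_iff]
  exact MvPolynomial.isWeightedHomogeneous_C _ c

/-- The pieces of non-negative degree. -/
def pc (X : GrLC.GMod.{u} (GrSyz.stdGr k (Fin (r + 1)))) (i : ℕ) : Submodule k X.carrier where
  carrier := (X.gr (i : ℤ) : Set X.carrier)
  zero_mem' := zero_mem _
  add_mem' := add_mem
  smul_mem' c m hm := by
    have h := SetLike.GradedSMul.smul_mem (B := X.gr) (C_mem_zero (r := r) c) hm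
    rwa [vadd_eq_add, zero_add] at h

instance gradedSMul_pc (X : GrLC.GMod.{u} (GrSyz.stdGr k (Fin (r + 1)))) : SetLike.GradedSMul 𝒮 (pc X) where
  smul_mem {i j a m} ha hm := by
    have h := SetLike.GradedSMul.smul_mem (B := X.gr) ((mem_poly_iff i a).1 ha) hm
    show a • m ∈ X.gr (((i +ᵥ j : ℕ) : ℤ))
    rw [show (((i +ᵥ j : ℕ) : ℤ)) = (i : ℤ) +ᵥ (j : ℤ) by rw [vadd_eq_add, vadd_eq_add]; push_cast; rfl]
    exact h

/-- The shift of a bundled module. -/
abbrev sft (X : GrLC.GMod.{u} (GrSyz.stdGr k (Fin (r + 1)))) (e : ℤ) : GrLC.GMod.{u} (GrSyz.stdGr k (Fin (r + 1))) :=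
  shiftGMod (GrSyz.stdGr k (Fin (r + 1))) X.gr e

/-- The sheaf of a bundled module. -/
abbrev sh (X : GrLC.GMod.{u} (GrSyz.stdGr k (Fin (r + 1)))) : (Proj 𝒮).Modules := tilde 𝒮 (pc X) 0

/-- Elements of degree zero as global sections. -/
def glob {X : GrLC.GMod.{u} (GrSyz.stdGr k (Fin (r + 1)))} (m : pc X 0) : Γ(sh X, ⊤) :=
  GrTilde.globalOf 𝒮 (pc X) m

theorem sval_glob {X : GrLC.GMod.{u} (GrSyz.stdGr k (Fin (r + 1)))} (m : pc X 0) (y : (⊤ : (Proj 𝒮).Opens)) :
    sval (glob m) y = LocalizedModule.mk m.1 (⟨1, fun h => y.1.isPrime.ne_top ((Ideal.eq_top_iff_one _).mpr h)⟩ :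
      y.1.asHomogeneousIdeal.toIdeal.primeCompl) := rfl

variable {X Y Z : GrLC.GMod.{u} (GrSyz.stdGr k (Fin (r + 1)))}

theorem glob_congr {m m' : pc X 0} (h : m.1 = m'.1) : glob m = glob m' := congrArg glob (Subtype.ext h)

theorem glob_add (m m' : pc X 0) : glob (m + m') = glob m + glob m' := by
  refine sval_ext fun y => ?_
  show LocalizedModule.mk (m.1 + m'.1) _ = sval (glob m) y + sval (glob m') y
  rw [sval_glob, sval_glob, LocalizedModule.mk_add_mk, LocalizedModule.mk_eq]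
  exact ⟨1, by simp [Submonoid.smul_def]⟩

theorem glob_zero : glob (0 : pc X 0) = 0 := sval_ext fun _ => LocalizedModule.zero_mk _

theorem glob_sub (m m' : pc X 0) : glob (m - m') = glob m - glob m' := by
  rw [eq_sub_iff_add_eq, ← glob_add, sub_add_cancel]

/-- The sheaf map of a homogeneous map of degree zero. -/
theorem shift_pc (f : X.carrier →ₗ[S] Y.carrier) (hf : GrLC.IsGrHomDeg X.gr Y.gr f 0) :
    Shift (pc X) (pc Y) f 0 0 := fun i j m hm hij => Or.inr ⟨i, hij, by
  have h := hf (i : ℤ) m hm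
  rw [add_zero] at h
  exact h⟩

/-- The sheaf map of a homogeneous map of degree zero. -/
def shMap (f : X.carrier →ₗ[S] Y.carrier) (hf : GrLC.IsGrHomDeg X.gr Y.gr f 0) : sh X ⟶ sh Y :=
  shiftHom 𝒮 f (shift_pc f hf)

theorem shMap_glob (f : X.carrier →ₗ[S] Y.carrier) (hf : GrLC.IsGrHomDeg X.gr Y.gr f 0) (m : pc X 0)
    (hm : f m.1 ∈ pc Y 0) : (shMap f hf).app ⊤ (glob m) = glob ⟨f m.1, hm⟩ :=
  sval_ext fun y => loc_mk f y.1 m.1 _

/-- Homogeneous bijections give isomorphisms. -/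
def shIso (f : X.carrier →ₗ[S] Y.carrier) (hf : GrLC.IsGrHomDeg X.gr Y.gr f 0) (g : Y.carrier →ₗ[S] X.carrier)
    (hg : GrLC.IsGrHomDeg Y.gr X.gr g 0) (h₁ : ∀ m, g (f m) = m) (h₂ : ∀ m, f (g m) = m) : sh X ≅ sh Y :=
  shiftIso f (shift_pc f hf) g (shift_pc g hg) h₁ h₂

/-- Homogeneous components of the product with a homogeneous element. -/
theorem decompose_smul' (c : S) {z w : ℤ} {m : X.carrier} (hm : m ∈ X.gr z) :
    (decompose X.gr (c • m) w : X.carrier) = (decompose 𝒵 c (w - z) : S) • m := by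
  classical
  induction c using Decomposition.inductionOn 𝒵 with
  | zero => simp
  | @homogeneous i c =>
    have h : (c : S) • m ∈ X.gr (i + z) := SetLike.GradedSMul.smul_mem c.2 hm
    rcases eq_or_ne (i + z) w with rfl | hne
    · rw [decompose_of_mem_same _ h, show i + z - z = i by ring, decompose_of_mem_same _ c.2]
    · rw [decompose_of_mem_ne _ h hne, decompose_of_mem_ne _ c.2 (by omega), zero_smul]
  | add a b ha hb =>
    simp only [add_smul, decompose_add, DirectSum.add_apply, AddSubgroup.coe_add, Submodule.coe_add, ha, hb]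

theorem decompose_std' (c : S) (e : ℕ) : (decompose 𝒵 c (e : ℤ) : S) = (decompose 𝒮 c e : S) := by
  classical
  induction c using Decomposition.inductionOn 𝒮 with
  | zero => simp
  | @homogeneous i c =>
    rcases eq_or_ne i e with rfl | hne
    · rw [decompose_of_mem_same _ c.2, decompose_of_mem_same _ ((mem_poly_iff i _).1 c.2)]
    · rw [decompose_of_mem_ne _ c.2 hne, decompose_of_mem_ne _ ((mem_poly_iff i _).1 c.2) (by exact_mod_cast hne)]
  | add a b ha hb => simp only [decompose_add, DirectSum.add_apply, Submodule.coe_add, ha, hb]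

theorem component_smul_eq_zero {z : ℤ} {m : X.carrier} (hm : m ∈ X.gr z) {c : S} (h : c • m = 0) (e : ℕ) :
    (decompose 𝒮 c e : S) • m = 0 := by
  have h2 := decompose_smul' c (w := (e : ℤ) + z) hm
  rw [h, decompose_zero, add_sub_cancel_right, decompose_std'] at h2
  exact h2.symm

theorem exists_coord_notMem (y : ProjectiveSpectrum 𝒮) : ∃ j, coords k r j ∉ y.asHomogeneousIdeal := by
  obtain ⟨j, hj⟩ := Opens.mem_iSup.1 ((coords_cover (k := k) (r := r)).ge (trivial : (y : Proj 𝒮) ∈ (⊤ : (Proj 𝒮).Opens)))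
  exact ⟨j, hj⟩

theorem mem_irrel_coords (j : ULift.{u} (Fin (r + 1))) : coords k r j ∈ (𝔪).toIdeal :=
  mem_irrel_of_pos 𝒵 one_pos ((mem_poly_iff 1 _).1 (coords_mem j))

theorem irrel_le_span_coords : (𝔪).toIdeal ≤ Ideal.span (Set.range (coords k r)) := by
  refine (irrel_le_span_one k (r + 1)).trans (Ideal.span_le.2 fun p hp => ?_)
  have hp1 : p ∈ MvPolynomial.homogeneousSubmodule (Fin (r + 1)) k 1 := (mem_poly_iff 1 p).2 hp
  rw [MvPolynomial.homogeneousSubmodule_one_eq_span_X] at hp1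
  refine Submodule.span_le_restrictScalars k S _ (Submodule.span_mono ?_ hp1)
  rintro _ ⟨j, rfl⟩
  exact ⟨ULift.up j, rfl⟩

/-- The kernel of `glob` is torsion. -/
theorem mem_gam_of_glob_eq_zero (m : pc X 0) (h : glob m = 0) : m.1 ∈ GrLC.gam (𝔪).toIdeal X.carrier := by
  have hmem : m.1 ∈ X.gr 0 := m.2
  let I : Ideal S := LinearMap.ker (LinearMap.toSpanSingleton S X.carrier m.1)
  have hI : I.IsHomogeneous 𝒮 := fun e c hc =>
    component_smul_eq_zero hmem (LinearMap.mem_ker.1 hc) e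
  have hrad : ∀ j, coords k r j ∈ I.radical := fun j =>
    GrModX.mem_radical_of_forall 𝒮 hI one_pos (coords_mem j) fun x _ => by
      have h1 : LocalizedModule.mk m.1 (⟨1, fun h => x.isPrime.ne_top ((Ideal.eq_top_iff_one _).mpr h)⟩ :
          x.asHomogeneousIdeal.toIdeal.primeCompl) = 0 :=
        congrArg (fun s => sval s (⟨x, trivial⟩ : (⊤ : (Proj 𝒮).Opens))) h
      rw [← LocalizedModule.zero_mk 1, LocalizedModule.mk_eq] at h1
      obtain ⟨u, hu⟩ := h1
      refine ⟨u.1, LinearMap.mem_ker.2 ?_, u.2⟩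
      show u.1 • m.1 = 0
      exact ((congrArg (u.1 • ·) (one_smul S m.1)).symm.trans hu).trans
        ((congrArg (u.1 • ·) (smul_zero _)).trans (smul_zero _))
  have hle : (𝔪).toIdeal ≤ I.radical :=
    irrel_le_span_coords.trans (Ideal.span_le.2 (by rintro _ ⟨j, rfl⟩; exact hrad j))
  obtain ⟨N, hN⟩ := Ideal.exists_pow_le_of_le_radical_of_fg hle (IsNoetherian.noetherian _)
  exact ⟨N, fun a ha => LinearMap.mem_ker.1 (hN ha)⟩

theorem exists_pow_coord_smul {m : X.carrier} (hm : m ∈ GrLC.gam (𝔪).toIdeal X.carrier) :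
    ∃ N : ℕ, ∀ j, coords k r j ^ N • m = 0 := by
  obtain ⟨N, hN⟩ := hm
  exact ⟨N, fun j => hN _ (Ideal.pow_mem_pow (mem_irrel_coords j) N)⟩

/-- A sheaf map which is onto up to torsion is an epimorphism. -/
theorem epi_shMap (f : X.carrier →ₗ[S] Y.carrier) (hf : GrLC.IsGrHomDeg X.gr Y.gr f 0)
    (hsurj : ∀ m : Y.carrier, ∃ N : ℕ, ∀ j, coords k r j ^ N • m ∈ LinearMap.range f) : Epi (shMap f hf) := by
  refine RelTildeX.epi_of_locally _ fun U s x hx => ?_
  obtain ⟨V, hxV, iV, i, j, m, σ, nin, c, w⟩ := s.2 ⟨x, hx⟩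
  obtain ⟨N, hN⟩ := hsurj m.1
  obtain ⟨l, hl⟩ := exists_coord_notMem x
  let g : S := coords k r l ^ N
  have hg : g ∈ 𝒮 N := by
    have := SetLike.pow_mem_graded N (coords_mem (k := k) (r := r) l)
    rwa [smul_eq_mul, mul_one] at this
  let V' : (Proj 𝒮).Opens := V ⊓ Proj.basicOpen 𝒮 (coords k r l)
  have nin' : ∀ y : V', g * σ.1 ∉ y.1.asHomogeneousIdeal := fun y h =>
    (y.1.isPrime.mem_or_mem h).elim (fun h' => y.2.2 (y.1.isPrime.mem_of_pow_mem N h')) (nin ⟨y.1, y.2.1⟩)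
  refine ⟨V', inf_le_left.trans iV.le, ⟨hxV, hl⟩, ?_⟩
  have hw : ∀ y : V', sval s ⟨y.1, iV.le y.2.1⟩ = LocalizedModule.mk (g • m.1) ⟨g * σ.1, nin' y⟩ := fun y => by
    refine (w ⟨y.1, y.2.1⟩).trans (LocalizedModule.mk_eq.2 ⟨1, ?_⟩)
    simp only [one_smul, Submonoid.smul_def, smul_smul]
    rw [mul_comm]
  rcases c with c | c
  · have hgm : g • m.1 ∈ Y.gr (((N + i : ℕ)) : ℤ) :=
      (gradedSMul_pc Y).smul_mem (i := N) (j := i) hg m.2
    obtain ⟨m', hm', hfm⟩ := exists_preimage_mem f hf hgm (hN l)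
    rw [sub_zero] at hm'
    refine ⟨frac (pc X) 0 V' (i := N + i) hm' (SetLike.mul_mem_graded hg σ.2) (by push_cast; omega) nin',
      sval_ext fun y => ?_⟩
    change loc f y.1 (LocalizedModule.mk m' ⟨g * σ.1, nin' y⟩) = _
    rw [loc_mk, hfm]
    exact (hw y).symm
  · refine ⟨0, sval_ext fun y => ?_⟩
    rw [map_zero, sval_res]
    exact ((w ⟨y.1, y.2.1⟩).trans (by rw [c]; exact LocalizedModule.zero_mk _)).symm

theorem exact_shMap (f : X.carrier →ₗ[S] Y.carrier) (hf : GrLC.IsGrHomDeg X.gr Y.gr f 0)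
    (p : Y.carrier →ₗ[S] Z.carrier) (hp : GrLC.IsGrHomDeg Y.gr Z.gr p 0) (hex : Function.Exact f p) :
    (ShortComplex.mk (shMap f hf) (shMap p hp)
      (shiftHom_comp f (shift_pc f hf) p (shift_pc p hp) (LinearMap.ext fun x => hex.apply_apply_eq_zero x))).Exact := by
  refine exact_shiftHom f (shift_pc f hf) p (shift_pc p hp) (LinearMap.ext fun x => hex.apply_apply_eq_zero x)
    (fun i m c hm h e => ?_) fun i j m hm hij h => Or.inr ?_
  · rw [map_smul] at h ⊢
    exact component_smul_eq_zero (hp (i : ℤ) m hm) h e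
  · obtain ⟨m', hm', hfm⟩ := exists_preimage_mem f hf hm ((hex m).1 h)
    rw [sub_zero] at hm'
    exact ⟨i, m', hm', hij, hfm⟩

/-- Shifting a homogeneous map. -/
theorem hom_sft {f : X.carrier →ₗ[S] Y.carrier} (hf : GrLC.IsGrHomDeg X.gr Y.gr f 0) (a : ℤ) :
    GrLC.IsGrHomDeg (sft X a).gr (sft Y a).gr (f : (sft X a).carrier →ₗ[S] (sft Y a).carrier) 0 := fun l m hm => by
  show f m ∈ Y.gr (l + 0 + a)
  have h := hf (l + a) m hm
  rw [add_zero] at h ⊢
  exact h

/-- The short complex of sheaves of a sequence of shifted modules. -/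
def seqSh (f : X.carrier →ₗ[S] Y.carrier) (hf : GrLC.IsGrHomDeg X.gr Y.gr f 0) (p : Y.carrier →ₗ[S] Z.carrier)
    (hp : GrLC.IsGrHomDeg Y.gr Z.gr p 0) (hex : Function.Exact f p) (a : ℤ) : ShortComplex (Proj 𝒮).Modules :=
  ShortComplex.mk (shMap (X := sft X a) (Y := sft Y a) f (hom_sft hf a))
    (shMap (X := sft Y a) (Y := sft Z a) p (hom_sft hp a))
    (shiftHom_comp (M := (sft X a).carrier) _ (shift_pc (X := sft X a) (Y := sft Y a) f (hom_sft hf a)) _
      (shift_pc (X := sft Y a) (Y := sft Z a) p (hom_sft hp a)) (LinearMap.ext fun x => hex.apply_apply_eq_zero x))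

theorem seqSh_shortExact (f : X.carrier →ₗ[S] Y.carrier) (hf : GrLC.IsGrHomDeg X.gr Y.gr f 0)
    (hinj : Function.Injective f) (p : Y.carrier →ₗ[S] Z.carrier)
    (hp : GrLC.IsGrHomDeg Y.gr Z.gr p 0) (hex : Function.Exact f p)
    (hsurj : ∀ m : Z.carrier, ∃ N : ℕ, ∀ j, coords k r j ^ N • m ∈ LinearMap.range p) (a : ℤ) :
    (seqSh f hf p hp hex a).ShortExact where
  exact := exact_shMap (X := sft X a) (Y := sft Y a) (Z := sft Z a) f (hom_sft hf a) p (hom_sft hp a) hex
  mono_f := mono_shiftHom _ (shift_pc (X := sft X a) (Y := sft Y a) f (hom_sft hf a)) hinj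
  epi_g := epi_shMap (X := sft Y a) (Y := sft Z a) p (hom_sft hp a) hsurj

theorem range_of_surjective (p : X.carrier →ₗ[S] Y.carrier) (h : Function.Surjective p) (m : Y.carrier) :
    ∃ N : ℕ, ∀ j, coords k r j ^ N • m ∈ LinearMap.range p :=
  ⟨0, fun _ => h _⟩

theorem isZero_sh [Subsingleton X.carrier] : IsZero (sh X) := isZero_tilde

end Groth.Agent.TildeRes6
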